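import Cfsg.Agent.Omega.NO1.Alpha.Six

/-!
# THEOREM ALPHA (text #18722, helper446), (6) second half and (7): (+)
-/

set_option autoImplicit false
set_option linter.unusedSectionVars false

namespace Cfsg.Agent.Omega.NO1.Alpha

open Subgroup Cfsg.Agent.ZN
open Cfsg.Agent.Omega.NO1.HE (dl dl_apply dl_one dl_eq_zero dl_comm dl_mul dl_self smul_eq add_eq_zero' mem_conj
  Pts At mem_smul_sylow exists_fixed)
open scoped Pointwise

universe u

variable {Y : Type u} [Group Y] {V : Type u} [AddCommGroup V] [DistribMulAction Y V] {Ω : Type u} [MulAction Y Ω]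

theorem dl_conj_smul (r t : Y) (w : V) : dl (r * t * r⁻¹) (r • w) = r • dl t w := dl_conj r t w

namespace Inp

variable {q : ℕ} {UU : Set (Subgroup Y)} [Finite Y] [Finite V] (I : Inp V q UU)
include I

section lines

variable {B : Subgroup Y} (hB : B ∈ UU) {r : Y} (hr : r ∈ normalizer (B : Set Y))
include hB hr

theorem dlF_of {f : V} (hf : f ∈ FX V B) : dl r f ∈ FX V B := by
  rw [dl_apply]
  exact (FX V B).add_mem (smul_FX_of hr hf) hf

theorem dlE_of {e : V} (he : e ∈ EX V B) : dl r e ∈ EX V B := by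
  rw [dl_apply]
  exact (EX V B).add_mem (smul_EX_of hr he) he

/-- `r` centralises a line ⟹ `r` centralises `V / E` -/
theorem triv_of_line (hr2 : IsPGroup 2 (zpowers r)) {s : Y} (hs : s ∈ B) (hs1 : s ≠ 1)
    (hl : ∀ t ∈ ln V B s, r * t = t * r) (w : V) : dl r w ∈ EX V B := by
  have M := I.mem B hB
  obtain ⟨v, hv, hvr⟩ := exists_fixed_mod I.two hr2 (EX V B) (by
    intro x hx e he
    exact smul_EX_of ((zpowers_le.2 hr : zpowers r ≤ normalizer (B : Set Y)) hx) he) M.ne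
  have hvr' := hvr r (mem_zpowers r)
  by_cases hw : w ∈ EX V B
  · exact I.dlE_of hB hr hw
  by_contra hne
  have hxF : dl s v ∉ FX V B := I.dl_notF hB hs hs1 hv
  obtain ⟨s', hs', hx⟩ := M.surj w hw (dl s v) (M.VB s hs v)
  have hxF' : dl s' w ∉ FX V B := fun h => hxF ((add_mem_iff I.two hx).1 h)
  have hs1' : s' ≠ 1 := by
    rintro rfl
    exact hxF' (by rw [dl_one I.two]; exact (FX V B).zero_mem)
  have hsx : s • dl s v = dl s v := (dl_eq_zero I.two).1 (dl_self I.two (M.sq s hs) v)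
  have hsx' : s' • dl s v = dl s v := by
    have h1 : dl s' (dl s' w + dl s v) = 0 := M.dl0 I.two hs' hx
    rw [map_add, dl_self I.two (M.sq s' hs'), zero_add] at h1
    exact (dl_eq_zero I.two).1 h1
  have hmem : s' ∈ ln V B s := ⟨hs', fun v hv => I.same hB hs hs1 hs' hxF hsx hsx' hv⟩
  have h1 : dl r (dl s v) ∈ FX V B := by
    rw [dl_comm (hl s (self_mem_ln hs))]
    exact M.dlF hs hvr'
  have h2 : dl r (dl s' w) ∈ FX V B := by
    have h3 := I.dlF_of hB hr hx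
    rw [map_add] at h3
    exact (add_mem_iff I.two h3).2 h1
  rw [dl_comm (hl s' hmem)] at h2
  exact I.dl_notF hB hs' hs1' hne h2

/-- `r` centralises `V / E` and `t` ⟹ `r` centralises the line of `t` -/
theorem comm_line (htr : ∀ w : V, dl r w ∈ EX V B) {t : Y} (ht : t ∈ B) (ht1 : t ≠ 1) (hc : r * t = t * r)
    {t' : Y} (ht' : t' ∈ ln V B t) : r * t' = t' * r := by
  have M := I.mem B hB
  by_cases h1 : t' = 1
  · rw [h1, mul_one, one_mul]
  obtain ⟨v, hv⟩ := M.ne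
  have hxF : dl t v ∉ FX V B := I.dl_notF hB ht ht1 hv
  have hx : t • dl t v = dl t v := (dl_eq_zero I.two).1 (dl_self I.two (M.sq t ht) v)
  obtain ⟨w, hw⟩ := I.exists_dl hB ht'.1 h1 (ht'.2 _ hx)
  have hwE : w ∉ EX V B := I.notE hB ht'.1 (by rw [hw]; exact hxF)
  have h2 : dl r (dl t v) ∈ FX V B := by
    rw [dl_comm hc]
    exact M.dlF ht (htr v)
  have ht'' : r * t' * r⁻¹ ∈ B := (mem_normalizer_iff.1 hr t').1 ht'.1
  have h3 : dl (r * t' * r⁻¹) w + dl t' w ∈ FX V B := by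
    have h4 := dl_conj_smul r t' w
    rw [smul_eq I.two r w, map_add] at h4
    have h5 : dl (r * t' * r⁻¹) (dl r w) ∈ FX V B := M.dlF ht'' (htr w)
    have h6 : dl (r * t' * r⁻¹) w + r • dl t' w ∈ FX V B := by
      rw [← h4, ← add_assoc, I.two, zero_add]
      exact h5
    refine add_trans I.two h6 ?_
    rw [hw]
    exact h2
  have h4 := I.eq_of hB hwE ht'' ht'.1 h3
  rw [mul_inv_eq_iff_eq_mul] at h4
  exact h4

end lines

variable (P : Pts Y Ω)
  (mx : ∀ (T : Sylow 2 Y) (p : Ω), At T p → ∀ K : Subgroup Y, (T : Subgroup Y) ≤ K → K ≠ ⊤ → ∀ k ∈ K, k • p = p)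
include P mx

section cf

variable {T T' : Sylow 2 Y} {B C : Subgroup Y} {p p' : Ω} (h : Cf UU T T' B C p p')
include h

/-- if `B ∩ T'` contains a line, it is a line -/
theorem eq_line {s : Y} (hs : s ∈ B) (hs1 : s ≠ 1) (hl : ∀ t ∈ ln V B s, t ∈ T') {f : Y} (hf : f ∈ B)
    (hfT : f ∈ T') : f ∈ ln V B s := by
  by_contra hne
  have hb := h.bad
  have MB := I.mem B hb.m
  have MC := I.mem C hb.m'
  have hBT := I.norm_of_le hb.m hb.l
  have hf1 : f ≠ 1 := fun h1 => hne (h1 ▸ one_mem _)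
  have key : ∀ r ∈ C ⊓ (T : Subgroup Y), ∀ b ∈ B, r * b = b * r := by
    intro r hr
    obtain ⟨hrC, hrT⟩ := Subgroup.mem_inf.1 hr
    have hrn := hBT hrT
    have hr2 : IsPGroup 2 (zpowers r) := MC.two_pow.to_le (zpowers_le.2 hrC)
    have hl' : ∀ t ∈ ln V B s, r * t = t * r := fun t ht => (I.comm P mx h ht.1 (hl t ht) hrC hrT).symm
    have htr := I.triv_of_line hb.m hrn hr2 hs hs1 hl'
    have h1 := I.eq_of_two_lines hb.m (R := B ⊓ centralizer {r}) inf_le_left hs hs1 hf hne (by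
      intro t ht
      refine Subgroup.mem_inf.2 ⟨ht.1, mem_centralizer_iff.2 fun x hx => ?_⟩
      rw [Set.mem_singleton_iff] at hx
      rw [hx]
      exact hl' t ht) (by
      intro t ht
      refine Subgroup.mem_inf.2 ⟨ht.1, mem_centralizer_iff.2 fun x hx => ?_⟩
      rw [Set.mem_singleton_iff] at hx
      rw [hx]
      exact I.comm_line hb.m hrn htr hf hf1 (I.comm P mx h hf hfT hrC hrT).symm ht)
    intro b hbB
    rw [← h1] at hbB
    exact mem_centralizer_iff.1 (Subgroup.mem_inf.1 hbB).2 r rfl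
  have h1 := I.card_lt hb.m (D := C ⊓ (T : Subgroup Y))
    (fun a ha b hb => MC.comm a (Subgroup.mem_inf.1 ha).1 b (Subgroup.mem_inf.1 hb).1)
    (fun a ha => MC.sq a (Subgroup.mem_inf.1 ha).1) key (by
      rw [eq_bot_iff, ← I.disj P mx h]
      intro y hy
      obtain ⟨h2, h3⟩ := Subgroup.mem_inf.1 hy
      exact Subgroup.mem_inf.2 ⟨h3, (Subgroup.mem_inf.1 h2).1⟩)
  have h2 := I.card_le P mx h.symm
  omega

/-- if `B ∩ T'` is a line, `C ∩ T` centralises `F_B` -/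
theorem fix_F {s : Y} (hs : s ∈ B) (hs1 : s ≠ 1) (hsT : s ∈ T') (hl : ∀ f ∈ B, f ∈ T' → f ∈ ln V B s)
    (hl' : ∀ t ∈ ln V B s, t ∈ T') {f : V} (hf : f ∈ FX V B) {r : Y} (hrC : r ∈ C) (hrT : r ∈ T) : r • f = f := by
  have hb := h.bad
  have MB := I.mem B hb.m
  have MC := I.mem C hb.m'
  have hrn := I.norm_of_le hb.m hb.l hrT
  have hr2 : IsPGroup 2 (zpowers r) := MC.two_pow.to_le (zpowers_le.2 hrC)
  have htr := I.triv_of_line hb.m hrn hr2 hs hs1
    (fun t ht => (I.comm P mx h ht.1 (hl' t ht) hrC hrT).symm)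
  obtain ⟨v, hv⟩ := MB.ne
  have hsF : ∀ f ∈ FX V B, dl s f = 0 := fun f hf => MB.dl0 I.two hs hf
  -- `s` centralises `[E, r]`
  have key : ∀ e ∈ EX V B, dl s (dl r e) = 0 := by
    intro e he
    obtain ⟨u, hu, hue⟩ := MB.surj v hv e he
    have h1 : dl s (dl r (dl u v + e)) = 0 := hsF _ (I.dlF_of hb.m hrn hue)
    rw [map_add, map_add] at h1
    rw [← (add_eq_zero' I.two).1 h1]
    -- `u' = u^r`
    have hu' : r * u * r⁻¹ ∈ B := (mem_normalizer_iff.1 hrn u).1 hu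
    have hcB : r * u * r⁻¹ * u ∈ B := mul_mem hu' hu
    have hcT : r * u * r⁻¹ * u ∈ T' := by
      have h2 := I.comm_mem P mx h hu hrC hrT
      have e1 : r * u * r⁻¹ * u = (u * r * u⁻¹ * r⁻¹)⁻¹ := by
        have : u⁻¹ = u := MB.inv_eq hu
        calc r * u * r⁻¹ * u = r * u * r⁻¹ * u⁻¹ := by rw [this]
          _ = _ := by group
      rw [e1]
      exact inv_mem h2
    have hc := hl _ hcB hcT
    have h2 : dl s (dl (r * u * r⁻¹ * u) v) = 0 := by
      by_cases hc1 : r * u * r⁻¹ * u = 1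
      · rw [hc1, dl_one I.two, map_zero]
      · rw [dl_eq_zero I.two]
        exact I.ln_symm hb.m hs hs1 hc hc1
          ((dl_eq_zero I.two).1 (dl_self I.two (MB.sq _ hcB) v))
    have h3 : dl r (dl u v) = dl (r * u * r⁻¹ * u) v + dl (r * u * r⁻¹) (dl u v) +
        dl (r * u * r⁻¹) (dl r v) := by
      have h4 := dl_conj_smul r u v
      rw [smul_eq I.two r v, map_add, smul_eq I.two r (dl u v)] at h4
      rw [dl_mul I.two]
      have h5 : dl r (dl u v) = dl u v + (dl (r * u * r⁻¹) v + dl (r * u * r⁻¹) (dl r v)) := by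
        rw [h4, ← add_assoc, I.two, zero_add]
      rw [h5]
      have h6 : dl (r * u * r⁻¹) v + dl u v + dl (r * u * r⁻¹) (dl u v) + dl (r * u * r⁻¹) (dl u v) +
          dl (r * u * r⁻¹) (dl r v) = dl u v + (dl (r * u * r⁻¹) v + dl (r * u * r⁻¹) (dl r v)) +
          (dl (r * u * r⁻¹) (dl u v) + dl (r * u * r⁻¹) (dl u v)) := by abel
      rw [h6, I.two, add_zero]
    rw [h3, map_add, map_add, h2, hsF _ (MB.dlF hu' (MB.VB u hu v)), hsF _ (MB.dlF hu' (htr v)), add_zero,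
      add_zero]
  obtain ⟨e, he, rfl⟩ := I.EF B hb.m s hs hs1 f hf
  rw [← dl_eq_zero I.two, dl_comm (I.comm P mx h hs hsT hrC hrT).symm]
  exact key e he

/-- if `B ∩ T'` contains no line, `C_V(B ∩ T') = F_B` -/
theorem fix_of_not_line (hn : ¬ ∃ s ∈ B, s ≠ 1 ∧ ∀ t ∈ ln V B s, t ∈ T') {v : V}
    (hv : ∀ b ∈ B, b ∈ T' → b • v = v) : v ∈ FX V B := by
  by_contra hvF
  have hb := h.bad
  obtain ⟨s, hs, hs1, hsT⟩ := I.t1 P mx h
  have h1 : B ⊓ (T' : Subgroup Y) ≤ ln V B s :=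
    I.le_ln hb.m inf_le_left hvF (fun r hr => hv r (Subgroup.mem_inf.1 hr).1 (Subgroup.mem_inf.1 hr).2)
      (Subgroup.mem_inf.2 ⟨hs, hsT⟩) hs1
  have h2 : B ⊓ (T' : Subgroup Y) = ln V B s :=
    Subgroup.eq_of_le_of_card_ge h1 (by rw [I.card_ln hb.m hs hs1]; exact I.card_le P mx h)
  exact hn ⟨s, hs, hs1, fun t ht => by rw [← h2] at ht; exact (Subgroup.mem_inf.1 ht).2⟩

/-- `F_B ∩ F_C = 0` -/
theorem disjF {w : V} (hw : w ≠ 0) (hwB : w ∈ FX V B) (hwC : w ∈ FX V C) : False := by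
  have hb := h.bad
  obtain ⟨D, hD⟩ := I.soc w hw
  -- each side
  have key : ∀ {T T' : Sylow 2 Y} {B C : Subgroup Y} {p p' : Ω}, Cf UU T T' B C p p' → w ∈ FX V B →
      w ∈ FX V C → ∃ s ∈ B, s ≠ 1 ∧ (∀ f ∈ B, f ∈ T' → f ∈ ln V B s) ∧ (∀ t ∈ ln V B s, t ∈ T') ∧
      ∀ v, v ∉ EX V B → (∀ a ∈ ln V B s, ∃ e ∈ D, dl a v + e ∈ FX V B) ∧
        ∀ e ∈ D, ∃ a ∈ ln V B s, dl a v + e ∈ FX V B := by
    intro T T' B C p p' h hwB hwC
    have hb := h.bad
    have MB := I.mem B hb.m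
    obtain ⟨A, hAB, hA1, hAn, hAD⟩ := hD B hb.m hwB
    obtain ⟨⟨s, hsA⟩, hs1'⟩ := Subgroup.ne_bot_iff_exists_ne_one.mp hA1
    have hs1 : s ≠ 1 := fun h1 => hs1' (Subtype.ext h1)
    have hsB := hAB hsA
    have hln : ln V B s ≤ A := by
      intro t ht
      by_cases ht1 : t = 1
      · rw [ht1]; exact one_mem _
      obtain ⟨v, hv⟩ := MB.ne
      have hxF : dl s v ∉ FX V B := I.dl_notF hb.m hsB hs1 hv
      have hx : s • dl s v = dl s v := (dl_eq_zero I.two).1 (dl_self I.two (MB.sq s hsB) v)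
      obtain ⟨w', hw'⟩ := I.exists_dl hb.m ht.1 ht1 (ht.2 _ hx)
      have hwE : w' ∉ EX V B := I.notE hb.m ht.1 (by rw [hw']; exact hxF)
      obtain ⟨e, he, hse⟩ := (hAD v hv).1 s hsA
      obtain ⟨a, ha, hae⟩ := (hAD w' hwE).2 e he
      have h1 : dl a w' + dl t w' ∈ FX V B := by
        rw [hw']
        refine add_trans I.two hae ?_
        rwa [add_comm]
      rw [← I.eq_of hb.m hwE (hAB ha) ht.1 h1]
      exact ha
    have hAT : ∀ a ∈ A, a ∈ T' := fun a ha => I.norm P mx h (hAB ha) (hAn C hb.m' hwC ha)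
    have hl' : ∀ t ∈ ln V B s, t ∈ T' := fun t ht => hAT t (hln ht)
    have hl : ∀ f ∈ B, f ∈ T' → f ∈ ln V B s := fun f hf hfT => I.eq_line P mx h hsB hs1 hl' hf hfT
    have hAl : A = ln V B s := le_antisymm (fun a ha => hl a (hAB ha) (hAT a ha)) hln
    refine ⟨s, hsB, hs1, hl, hl', ?_⟩
    rw [← hAl]
    exact hAD
  obtain ⟨s, hs, hs1, hl, hl', hsD⟩ := key h hwB hwC
  obtain ⟨t, ht, ht1, hlt, hlt', htD⟩ := key h.symm hwC hwB
  have MB := I.mem B hb.m
  have MC := I.mem C hb.m'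
  have htT : t ∈ T := hlt' t (self_mem_ln ht)
  have hsT : s ∈ T' := hl' s (self_mem_ln hs)
  have hFB : ∀ f ∈ FX V B, t • f = f := fun f hf => I.fix_F P mx h hs hs1 hsT hl hl' hf ht htT
  -- `E_w ≤ C_V(t)`
  have hDt : ∀ e ∈ D, t • e = e := by
    intro e he
    obtain ⟨v, hv⟩ := MC.ne
    obtain ⟨a, ha, hae⟩ := (htD v hv).2 e he
    have h1 : t • dl a v = dl a v := by
      by_cases ha1 : a = 1
      · rw [ha1, dl_one I.two, smul_zero]
      · exact I.ln_symm hb.m' ht ht1 ha ha1 ((dl_eq_zero I.two).1 (dl_self I.two (MC.sq a ha.1) v))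
    have h2 := hae t ht
    rw [smul_add, h1] at h2
    exact add_left_cancel h2
  -- `C_V(s) ≤ C_V(t)`
  have hst : ∀ x : V, s • x = x → t • x = x := by
    intro x hx
    by_cases hxF : x ∈ FX V B
    · exact hFB x hxF
    obtain ⟨w', rfl⟩ := I.exists_dl hb.m hs hs1 hx
    have hwE : w' ∉ EX V B := I.notE hb.m hs hxF
    obtain ⟨e, he, hse⟩ := (hsD w' hwE).1 s (self_mem_ln hs)
    have h2 := hFB _ hse
    rw [smul_add, hDt e he] at h2
    exact add_right_cancel h2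
  exact hb.ne (I.eq_pt P mx hb.m hb.l hb.a hs hs1 hb.m' hb.l' hb.a' ht ht1 hst)

theorem not_line_of (hL : ∃ s ∈ B, s ≠ 1 ∧ ∀ t ∈ ln V B s, t ∈ T') : ∃ t ∈ C, t ≠ 1 ∧ ∀ x ∈ ln V C t, x ∈ T := by
  by_contra hn
  have hb := h.bad
  obtain ⟨s, hs, hs1, hl'⟩ := hL
  have hl : ∀ f ∈ B, f ∈ T' → f ∈ ln V B s := fun f hf hfT => I.eq_line P mx h hs hs1 hl' hf hfT
  have h1 : FX V B ≤ FX V C := fun f hf => I.fix_of_not_line P mx h.symm hn fun b hbC hbT =>
    I.fix_F P mx h hs hs1 (hl' s (self_mem_ln hs)) hl hl' hf hbC hbT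
  have h2 := I.ext_of_le hb.m hb.m' h1
  have h3 := I.disj P mx h
  rw [← h2, inf_idem] at h3
  rw [h3, mem_bot] at hs
  exact hs1 hs

theorem false_of_cf : False := by
  have hb := h.bad
  have MB := I.mem B hb.m
  have MC := I.mem C hb.m'
  by_cases hL : ∃ s ∈ B, s ≠ 1 ∧ ∀ t ∈ ln V B s, t ∈ T'
  · obtain ⟨t, ht, ht1, hlt'⟩ := I.not_line_of P mx h hL
    obtain ⟨s, hs, hs1, hl'⟩ := hL
    have hl : ∀ f ∈ B, f ∈ T' → f ∈ ln V B s := fun f hf hfT => I.eq_line P mx h hs hs1 hl' hf hfT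
    have hlt : ∀ f ∈ C, f ∈ T → f ∈ ln V C t := fun f hf hfT => I.eq_line P mx h.symm ht ht1 hlt' hf hfT
    have hsT : s ∈ T' := hl' s (self_mem_ln hs)
    have htT : t ∈ T := hlt' t (self_mem_ln ht)
    -- `F_B`, `F_C ≤ C_V(s), C_V(t)`
    have h1 : ∀ f ∈ FX V B, t • f = f := fun f hf => I.fix_F P mx h hs hs1 hsT hl hl' hf ht htT
    have h2 : ∀ f ∈ FX V C, s • f = f := fun f hf => I.fix_F P mx h.symm ht ht1 htT hlt hlt' hf hs hsT
    have hdis : FX V B ⊓ FX V C = ⊥ := by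
      rw [eq_bot_iff]
      intro w hw
      rw [AddSubgroup.mem_bot]
      by_contra hw0
      exact I.disjF P mx h hw0 (AddSubgroup.mem_inf.1 hw).1 (AddSubgroup.mem_inf.1 hw).2
    -- the sum has order `q²`
    have h3 : Nat.card (FX V B ⊔ FX V C : AddSubgroup V) = q ^ 2 := by
      let f : FX V B × FX V C →+ V := (FX V B).subtype.coprod (FX V C).subtype
      have hf : ∀ x : FX V B × FX V C, f x = x.1 + x.2 := fun _ => rfl
      have hinj : Function.Injective f := by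
        rw [injective_iff_map_eq_zero]
        rintro ⟨a, b⟩ hab
        rw [hf] at hab
        have h4 : (a : V) = b := (add_eq_zero' I.two).1 hab
        have h5 : (a : V) ∈ FX V B ⊓ FX V C := AddSubgroup.mem_inf.2 ⟨a.2, h4 ▸ b.2⟩
        rw [hdis, AddSubgroup.mem_bot] at h5
        exact Prod.ext (Subtype.ext h5) (Subtype.ext (h4 ▸ h5))
      have hr : f.range = FX V B ⊔ FX V C := by
        ext x
        rw [AddSubgroup.mem_sup]
        constructor
        · rintro ⟨⟨a, b⟩, rfl⟩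
          exact ⟨a, a.2, b, b.2, rfl⟩
        · rintro ⟨a, ha, b, hb, rfl⟩
          exact ⟨(⟨a, ha⟩, ⟨b, hb⟩), rfl⟩
      rw [← hr, ← Nat.card_congr (AddMonoidHom.ofInjective hinj).toEquiv, Nat.card_prod, I.cardF B hb.m,
        I.cardF C hb.m', pow_two]
    have h4 : FX V B ⊔ FX V C = (dl s : V →+ V).ker := by
      refine AddSubgroup.eq_of_le_of_card_ge (sup_le (fun f hf => ?_) (fun f hf => ?_)) (by
        rw [h3, I.card_ker hb.m hs hs1])
      · exact MB.dl0 I.two hs hf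
      · exact (dl_eq_zero I.two).2 (h2 f hf)
    have h5 : FX V B ⊔ FX V C ≤ (dl t : V →+ V).ker :=
      sup_le (fun f hf => (dl_eq_zero I.two).2 (h1 f hf)) (fun f hf => MC.dl0 I.two ht hf)
    refine hb.ne (I.eq_pt P mx hb.m hb.l hb.a hs hs1 hb.m' hb.l' hb.a' ht ht1 fun x hx => ?_)
    have h6 : x ∈ (dl s : V →+ V).ker := (dl_eq_zero I.two).2 hx
    rw [← h4] at h6
    exact (dl_eq_zero I.two).1 (h5 h6)
  · have hn : ¬ ∃ t ∈ C, t ≠ 1 ∧ ∀ x ∈ ln V C t, x ∈ T := fun h1 => hL (I.not_line_of P mx h.symm h1)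
    -- a fixed vector of `T ∩ T'`
    obtain ⟨v, hv⟩ := MB.ne
    obtain ⟨w, -, hw0, hw⟩ := exists_fixed I.two (R := (T : Subgroup Y) ⊓ T') (T.isPGroup'.to_le inf_le_left)
      (⊤ : AddSubgroup V) (fun _ _ _ _ => trivial) ⟨v, trivial, fun h0 => hv (h0 ▸ (EX V B).zero_mem)⟩
    exact I.disjF P mx h hw0
      (I.fix_of_not_line P mx h hL fun b hbB hbT => hw b (Subgroup.mem_inf.2 ⟨hb.l hbB, hbT⟩))
      (I.fix_of_not_line P mx h.symm hn fun b hbC hbT => hw b (Subgroup.mem_inf.2 ⟨hbT, hb.l' hbC⟩))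

end cf

/-- **(6)** -/
theorem eq_of_fix {B : Subgroup Y} (hB : B ∈ UU) {T : Sylow 2 Y} (hT : B ≤ T) {p : Ω} (hp : At T p) {b : Y}
    (hb : b ∈ B) (hb1 : b ≠ 1) {p' : Ω} (hbp : b • p' = p') : p = p' := by
  by_contra hne
  obtain ⟨T', hT', hp'⟩ := P.exists_sylow (R := zpowers b) ((I.mem B hB).two_pow.to_le (zpowers_le.2 hb))
    (p := p') (fun r hr => (zpowers_le.2 (show b ∈ MulAction.stabilizer Y p' from hbp)) hr)
  obtain ⟨C, hC, hCT⟩ := I.exists_mem_sylow hB T'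
  obtain ⟨S, S', D, D', r, r', hcf⟩ := exists_cf (UU := UU) (T := T) (T' := T') (B := B) (C := C) (p := p)
    (p' := p') ⟨hB, hC, hT, hCT, hp, hp', hne, Or.inl ⟨b, hb, hb1, hT' (mem_zpowers b)⟩⟩
  exact I.false_of_cf P mx hcf

/-- **(7)** : (+) -/
theorem plus {B : Subgroup Y} (hB : B ∈ UU) {T : Sylow 2 Y} (hT : B ≤ T) {p : Ω} (hp : At T p) (T' : Sylow 2 Y)
    (p' : Ω) (hp' : At T' p') (h : ∃ v ∈ EX V B, v ≠ 0 ∧ ∀ t ∈ T', t • v = v) : p' = p := by
  have M := I.mem B hB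
  obtain ⟨v, hvE, hv0, hv⟩ := h
  -- `C_B(v) ≠ 1`
  obtain ⟨b, hb, hb1, hbv⟩ : ∃ b ∈ B, b ≠ 1 ∧ b • v = v := by
    by_contra hcon
    push Not at hcon
    let g : B → FX V B := fun b => ⟨dl b v, M.dlF b.2 hvE⟩
    have hg : Function.Injective g := by
      intro a c hac
      have h1 : dl (a : Y) v = dl (c : Y) v := congrArg Subtype.val hac
      have h2 : ((a * c : B) : Y) • v = v := by
        rw [← dl_eq_zero I.two, Subgroup.coe_mul, dl_mul I.two, h1, I.two, zero_add]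
        exact M.dl0 I.two a.2 (M.dlF c.2 hvE)
      by_contra hne
      refine hcon _ (a * c).2 (fun h3 => hne ?_) h2
      have h4 : (a : Y) * c = 1 := h3
      rw [mul_eq_one_iff_eq_inv, M.inv_eq c.2] at h4
      exact Subtype.ext h4
    have h1 := Nat.card_le_card_of_injective g hg
    rw [I.cardB B hB, I.cardF B hB] at h1
    have := I.q_lt_sq hB
    omega
  -- `C_Y(v) ≤ M'`
  have h1 : MulAction.stabilizer Y v ≠ ⊤ := by
    intro h1
    rcases I.irr (AddSubgroup.zmultiples v) (fun y x hx => by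
      obtain ⟨n, rfl⟩ := AddSubgroup.mem_zmultiples_iff.1 hx
      have h2 : y ∈ MulAction.stabilizer Y v := h1 ▸ mem_top y
      have h3 : y • v = v := h2
      refine AddSubgroup.mem_zmultiples_iff.2 ⟨n, ?_⟩
      rw [smul_comm, h3]) with h2 | h2
    · rw [AddSubgroup.zmultiples_eq_bot] at h2
      exact hv0 h2
    · have h3 := Nat.card_zmultiples v
      have h4 : addOrderOf v = 2 := by
        refine addOrderOf_eq_prime ?_ hv0
        rw [two_nsmul]; exact I.two v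
      rw [h2, h4, AddSubgroup.card_top, I.cardV] at h3
      have h5 := I.two_le_q hB
      have h6 : 2 ^ 4 ≤ q ^ 4 := Nat.pow_le_pow_left h5 4
      omega
  have h2 := mx T' p' hp' _ (fun t ht => hv t ht) h1 b hbv
  exact (I.eq_of_fix P mx hB hT hp hb hb1 h2).symm

end Inp

end Cfsg.Agent.Omega.NO1.Alpha
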