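import Cfsg.Agent.Omega.NO1.HE.Frame
import Cfsg.Agent.MinSimple.VModule

/-!
# THEOREM ALPHA (text #18722, helper446): members, the class, minimal pairs (N1-ONE)

`Y` acts on `V`.  A member is a subgroup `B` of `Y`; `F_B = FX V B = C_V(B)`, `E_B = EX V B = {v : [v,B] ≤ F_B}`.

* `Mem V q B` : the flat axioms with `N = 1`, `|V / E_B| = q`;
* `Cls V q UU` : a class of members; `K1` (field) and SOC;
* `Pair V UU A C L` : a minimal pair of type I.
-/

set_option autoImplicit false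
set_option linter.unusedSectionVars false

namespace Cfsg.Agent.Omega.NO1.Alpha

open Subgroup Cfsg.Agent.ZN
open Cfsg.Agent.Omega.NO1.HE (dl dl_apply dl_one dl_eq_zero dl_comm dl_mul dl_self smul_eq add_eq_zero' mem_conj)
open scoped Pointwise

universe u

variable {Y : Type u} [Group Y] (V : Type u) [AddCommGroup V] [DistribMulAction Y V]

/-- `C_V(B)` -/
def FX (B : Subgroup Y) : AddSubgroup V where
  carrier := {v | ∀ b ∈ B, b • v = v}
  zero_mem' := fun _ _ => smul_zero _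
  add_mem' := fun {v w} hv hw b hb => by rw [smul_add, hv b hb, hw b hb]
  neg_mem' := fun {v} hv b hb => by rw [smul_neg, hv b hb]

variable {V}

theorem mem_FX {B : Subgroup Y} {v : V} : v ∈ FX V B ↔ ∀ b ∈ B, b • v = v := Iff.rfl

variable (V)

/-- `{v : [v,B] ≤ C_V(B)}` -/
def EX (B : Subgroup Y) : AddSubgroup V where
  carrier := {v | ∀ b ∈ B, dl b v ∈ FX V B}
  zero_mem' := fun b _ => by rw [map_zero]; exact (FX V B).zero_mem
  add_mem' := fun {v w} hv hw b hb => by rw [map_add]; exact (FX V B).add_mem (hv b hb) (hw b hb)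
  neg_mem' := fun {v} hv b hb => by rw [map_neg]; exact (FX V B).neg_mem (hv b hb)

variable {V}

theorem mem_EX {B : Subgroup Y} {v : V} : v ∈ EX V B ↔ ∀ b ∈ B, dl b v ∈ FX V B := Iff.rfl

variable (V)

/-- A flat member. -/
structure Mem (q : ℕ) (B : Subgroup Y) : Prop where
  comm : ∀ b ∈ B, ∀ c ∈ B, b * c = c * b
  sq : ∀ b ∈ B, b * b = 1
  VB : ∀ b ∈ B, ∀ v : V, dl b v ∈ EX V B
  inj : ∀ w, w ∉ EX V B → ∀ b ∈ B, dl b w ∈ FX V B → b = 1
  surj : ∀ w, w ∉ EX V B → ∀ e ∈ EX V B, ∃ b ∈ B, dl b w + e ∈ FX V B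
  ind : (EX V B).index = q
  ne : ∃ v, v ∉ EX V B
  ne' : ∃ e ∈ EX V B, e ∉ FX V B

/-- The class of members.  `sc` : `F_q s_x`; `soc` : LEMMA SOC. -/
structure Cls (q : ℕ) (UU : Set (Subgroup Y)) : Prop where
  two : ∀ v : V, v + v = 0
  faith : ∀ y : Y, (∀ v : V, y • v = v) → y = 1
  mem : ∀ B ∈ UU, Mem V q B
  conj : ∀ B ∈ UU, ∀ y : Y, MulAut.conj y • B ∈ UU
  sc : ∀ B ∈ UU, ∀ x ∈ EX V B, x ∉ FX V B → ∃ A : Subgroup Y, A ≤ B ∧ Nat.card A = q ∧
    (∀ s ∈ A, s ≠ 1 → ∃ w, w ∉ EX V B ∧ dl s w + x ∈ FX V B) ∧ ∀ s ∈ A, ∀ t ∈ A, ∀ v : V, dl s (dl t v) = 0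
  soc : ∀ B ∈ UU, ∀ H : Subgroup Y, B ≤ H → (∃ v : V, v ≠ 0 ∧ ∀ h ∈ H, h • v = v) → B ⊓ o2 H ≠ ⊥

variable {V}

/-- A minimal pair of type I. -/
structure Pair (UU : Set (Subgroup Y)) (A C L : Subgroup Y) : Prop where
  A_mem : A ∈ UU
  C_mem : C ∈ UU
  ne : A ≠ C
  gen : A ⊔ C = L
  min : ∀ D ∈ UU, ∀ D' ∈ UU, D ≠ D' → D ⊔ D' ≤ L → D ⊔ D' = L
  one : ¬ (A ≤ normalizer (C : Set Y) ∧ C ≤ normalizer (A : Set Y))

/-! ### Basic facts -/

theorem smul_mem_FX {B : Subgroup Y} {g : Y} {v : V} : g • v ∈ FX V (MulAut.conj g • B) ↔ v ∈ FX V B := by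
  constructor
  · intro h b hb
    have h1 := h (g * b * g⁻¹) (by rw [mem_conj]; simpa [mul_assoc] using hb)
    rw [mul_smul, mul_smul, inv_smul_smul] at h1
    exact smul_left_cancel _ h1
  · intro h b hb
    rw [mem_conj] at hb
    have h1 := h _ hb
    rw [mul_smul, mul_smul, inv_smul_eq_iff] at h1
    exact h1

theorem dl_conj (g b : Y) (v : V) : dl (g * b * g⁻¹) (g • v) = g • dl b v := by
  rw [dl_apply, dl_apply, smul_add, mul_smul, mul_smul, inv_smul_smul]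

theorem smul_mem_EX {B : Subgroup Y} {g : Y} {v : V} : g • v ∈ EX V (MulAut.conj g • B) ↔ v ∈ EX V B := by
  constructor
  · intro h b hb
    have h1 := h (g * b * g⁻¹) (by rw [mem_conj]; simpa [mul_assoc] using hb)
    rw [dl_conj, smul_mem_FX] at h1
    exact h1
  · intro h b hb
    have h1 := h _ (mem_conj.1 hb)
    rw [← smul_mem_FX (g := g), ← dl_conj] at h1
    have e : g * (g⁻¹ * b * g) * g⁻¹ = b := by group
    rwa [e] at h1

theorem conj_eq_iff {B : Subgroup Y} {g : Y} : MulAut.conj g • B = B ↔ g ∈ normalizer (B : Set Y) := by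
  constructor
  · intro h
    rw [mem_normalizer_iff]
    intro y
    constructor
    · intro hy
      rw [← h, mem_conj]
      simpa [mul_assoc] using hy
    · intro hy
      rw [← h, mem_conj] at hy
      simpa [mul_assoc] using hy
  · intro h
    ext y
    rw [mem_conj]
    have h1 := mem_normalizer_iff.1 (inv_mem h) y
    rw [inv_inv] at h1
    exact h1.symm

theorem smul_FX_of {B : Subgroup Y} {g : Y} (hg : g ∈ normalizer (B : Set Y)) {v : V} (hv : v ∈ FX V B) :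
    g • v ∈ FX V B := by
  have h1 := smul_mem_FX (g := g).2 hv
  rwa [conj_eq_iff.2 hg] at h1

theorem smul_EX_of {B : Subgroup Y} {g : Y} (hg : g ∈ normalizer (B : Set Y)) {v : V} (hv : v ∈ EX V B) :
    g • v ∈ EX V B := by
  have h1 := smul_mem_EX (g := g).2 hv
  rwa [conj_eq_iff.2 hg] at h1

theorem FX_anti {B C : Subgroup Y} (h : B ≤ C) : FX V C ≤ FX V B := fun _ hv b hb => hv b (h hb)

theorem fix_sup {B C : Subgroup Y} {v : V} (hB : v ∈ FX V B) (hC : v ∈ FX V C) : v ∈ FX V (B ⊔ C) := by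
  have h1 : B ⊔ C ≤ MulAction.stabilizer Y v := sup_le (fun b hb => hB b hb) (fun c hc => hC c hc)
  exact fun b hb => h1 hb

namespace Mem

variable {q : ℕ} {B : Subgroup Y}

theorem FE (_ : Mem V q B) (h2 : ∀ v : V, v + v = 0) : FX V B ≤ EX V B := fun v hv b hb => by
  rw [(dl_eq_zero h2).2 (hv b hb)]
  exact (FX V B).zero_mem

theorem dlF (_ : Mem V q B) {b : Y} (hb : b ∈ B) {e : V} (he : e ∈ EX V B) : dl b e ∈ FX V B := he b hb

theorem dl0 (_ : Mem V q B) (h2 : ∀ v : V, v + v = 0) {b : Y} (hb : b ∈ B) {f : V} (hf : f ∈ FX V B) :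
    dl b f = 0 := (dl_eq_zero h2).2 (hf b hb)

theorem mem_of_fix (h : Mem V q B) (h2 : ∀ v : V, v + v = 0) {b : Y} (hb : b ∈ B) (h1 : b ≠ 1) {v : V}
    (hv : b • v = v) : v ∈ EX V B := by
  by_contra hvE
  refine h1 (h.inj v hvE b hb ?_)
  rw [(dl_eq_zero h2).2 hv]
  exact (FX V B).zero_mem

theorem two_pow (h : Mem V q B) : IsPGroup 2 B := fun b => ⟨1, by
  rw [pow_one, pow_two]; exact Subtype.ext (h.sq _ b.2)⟩

theorem inv_eq (h : Mem V q B) {b : Y} (hb : b ∈ B) : b⁻¹ = b :=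
  inv_eq_of_mul_eq_one_right (h.sq b hb)

theorem le_normalizer (_ : Mem V q B) : B ≤ normalizer (B : Set Y) := Subgroup.le_normalizer

theorem exists_ne_one (h : Mem V q B) : ∃ b ∈ B, b ≠ 1 := by
  obtain ⟨e, _, hf⟩ := h.ne'
  by_contra hcon
  push Not at hcon
  exact hf fun b hb => by rw [hcon b hb, one_smul]

end Mem

end Cfsg.Agent.Omega.NO1.Alpha
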