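import Cfsg.Agent.Omega.NO1.Alpha.Zero
import Cfsg.Agent.Omega.NO1.HE.End

/-!
# THEOREM ALPHA (text #18722, helper446): (3), `L` on `V`

For `H : AL V UU L`, members `D ≠ D'` in `L`: `|D| = q²`, `|F_D| = q`, `|V| = q⁴`, `V = F_D ⊕ E_D'`, `F_D = [E_D, b]`, `L` is
irreducible on `V`, `D` is transitive on the other members, `N_L(D) ∩ N_L(D')` is transitive on `D#`.
-/

set_option autoImplicit false
set_option linter.unusedSectionVars false

namespace Cfsg.Agent.Omega.NO1.Alpha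

open Subgroup Cfsg.Agent.ZN
open Cfsg.Agent.Omega.NO1.HE (dl dl_apply dl_one dl_eq_zero dl_comm dl_mul dl_self smul_eq add_eq_zero' mem_conj
  exists_fixed mem_smul_sylow At Pts Geo)
open Cfsg.Agent.MinSimple.VModule (o2_isPGroup le_normalizer_o2 o2_le)
open scoped Pointwise

universe u

variable {Y : Type u} [Group Y] {V : Type u} [AddCommGroup V] [DistribMulAction Y V] [Finite Y] [Finite V]

namespace AL

variable {UU : Set (Subgroup Y)} {L : Subgroup Y} {q : ℕ} {D D' : Subgroup Y}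

theorem core (H : AL V UU L) (K : Cls V q UU) : ∀ N : Subgroup L, N.Normal → IsPGroup 2 N → N = ⊥ := by
  intro N hN h2
  have h1 : N ≤ pCore 2 L := Lib.Cores.le_pCore hN h2
  have h3 : N.map L.subtype ≤ o2 L := map_mono h1
  rw [H.o2_eq K, le_bot_iff, map_eq_bot_iff_of_injective _ L.subtype_injective] at h3
  exact h3

theorem exists_pair (H : AL V UU L) (K : Cls V q UU) (hD : D ∈ UU) (hDL : D ≤ L) :
    ∃ C, Pair UU D C L := by
  obtain ⟨D', hD', hDL', hne⟩ := H.exists_ne D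
  exact ⟨D', H.pair K hD hD' hDL hDL' hne.symm⟩

/-- the point of `D` -/
abbrev pt (D L : Subgroup Y) : L ⧸ Pair.Mx D L := ((1 : L) : L ⧸ Pair.Mx D L)

theorem pts (H : AL V UU L) (K : Cls V q UU) (hD : D ∈ UU) (hDL : D ≤ L) : Pts L (L ⧸ Pair.Mx D L) := by
  obtain ⟨C, P⟩ := H.exists_pair K hD hDL
  obtain ⟨T, hT⟩ := P.exists_sylow K
  refine HE.pts_of (T := T) (H.core K) (P.le_Mx K hT (P.sylow_ne K T)) (P.Mx_ne K)
    (fun R hR hne => P.le_Mx K (hT.trans hR) hne) fun h => ?_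
  obtain ⟨b, hb, hb1⟩ := (K.mem D hD).exists_ne_one
  have h1 : (⟨b, hDL hb⟩ : L) ∈ (T : Subgroup L) := hT (mem_subgroupOf.2 hb)
  rw [h, mem_bot] at h1
  exact hb1 (congrArg Subtype.val h1)

theorem smul_pt_eq {x y : L} : x • pt D L = y • pt D L ↔ MulAut.conj (x : Y) • D = MulAut.conj (y : Y) • D := by
  change ((x * 1 : L) : L ⧸ Pair.Mx D L) = ((y * 1 : L) : L ⧸ Pair.Mx D L) ↔ _
  rw [mul_one, mul_one, QuotientGroup.eq, mem_subgroupOf]
  change (x : Y)⁻¹ * (y : Y) ∈ normalizer (D : Set Y) ↔ _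
  rw [← conj_eq_iff, map_mul, mul_smul, map_inv, inv_smul_eq_iff, eq_comm]

/-- **the frame of `D`** -/
theorem exists_fr (H : AL V UU L) (K : Cls V q UU) (hD : D ∈ UU) (hDL : D ≤ L) :
    ∃ T : Sylow 2 L, HE.Fr q T (pt D L) (EX V D) (FX V D) (D.subgroupOf L) := by
  obtain ⟨C, P⟩ := H.exists_pair K hD hDL
  obtain ⟨T, hT⟩ := P.exists_sylow K
  have hm := K.mem D hD
  have hTM := P.le_Mx K hT (P.sylow_ne K T)
  have hat : At T (pt D L) := by
    intro t ht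
    have h1 : t • pt D L = (1 : L) • pt D L := by
      rw [smul_pt_eq, OneMemClass.coe_one, map_one, one_smul]
      exact conj_eq_iff.2 (mem_subgroupOf.1 (hTM ht))
    rwa [one_smul] at h1
  refine ⟨T, ?_⟩
  exact
    { at' := hat
      ind := hm.ind
      BT := hT
      comm := fun b hb c hc => Subtype.ext (hm.comm b (mem_subgroupOf.1 hb) c (mem_subgroupOf.1 hc))
      sq := fun b hb => Subtype.ext (hm.sq b (mem_subgroupOf.1 hb))
      FE := hm.FE K.two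
      VB := fun b hb v => hm.VB b (mem_subgroupOf.1 hb) v
      EB := fun b hb e he => hm.dlF (mem_subgroupOf.1 hb) he
      FB := fun b hb f hf => hf b (mem_subgroupOf.1 hb)
      CB := fun v hv b hb => hv ⟨b, hDL hb⟩ (mem_subgroupOf.2 hb)
      inj := fun w hw b hb h1 => Subtype.ext (hm.inj w hw b (mem_subgroupOf.1 hb) h1)
      surj := by
        intro w hw e he
        obtain ⟨b, hb, h1⟩ := hm.surj w hw e he
        exact ⟨⟨b, hDL hb⟩, mem_subgroupOf.2 hb, h1⟩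
      ne := hm.ne
      ne' := hm.ne'
      plus := by
        rintro T' r hr ⟨v, hvE, hv0, hfix⟩
        obtain ⟨x, rfl⟩ := MulAction.exists_smul_eq L T T'
        have h1 : r = x • pt D L := (H.pts K hD hDL).one _ _ _ hr (hat.smul x)
        rw [h1]
        have h3 : MulAut.conj (x : Y) • D = D := by
          by_contra hne
          refine hv0 (H.disj K hD (K.conj D hD x) hDL (Pair.conj_le hDL x.2) (Ne.symm hne) hvE ?_)
          intro b hb
          rw [mem_conj] at hb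
          have h4 : (⟨(x : Y)⁻¹ * b * x, hDL hb⟩ : L) ∈ T := hT (mem_subgroupOf.2 hb)
          have hbL : b ∈ L := Pair.conj_le hDL x.2 (mem_conj.2 hb)
          exact hfix ⟨b, hbL⟩ (by rw [mem_smul_sylow]; exact h4)
        have h4 : x • pt D L = (1 : L) • pt D L := by
          rw [smul_pt_eq, h3, OneMemClass.coe_one, map_one, one_smul]
        rw [h4, one_smul] }

theorem fr_congr {Z Ω : Type u} [Group Z] [DistribMulAction Z V] [MulAction Z Ω] {a : ℕ} {T : Sylow 2 Z} {p : Ω}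
    {E F E' F' : AddSubgroup V} {B B' : Subgroup Z} (h : HE.Fr a T p E F B) (hE : E = E') (hF : F = F')
    (hB : B = B') : HE.Fr a T p E' F' B' := by
  subst hE hF hB
  exact h

/-- the frames of `D` and `D'` -/
theorem exists_frs (H : AL V UU L) (K : Cls V q UU) (hD : D ∈ UU) (hD' : D' ∈ UU)
    (hDL : D ≤ L) (hDL' : D' ≤ L) (hne : D ≠ D') :
    ∃ (T T' : Sylow 2 L) (r : L ⧸ Pair.Mx D L), HE.Fr q T (pt D L) (EX V D) (FX V D) (D.subgroupOf L) ∧
      HE.Fr q T' r (EX V D') (FX V D') (D'.subgroupOf L) ∧ pt D L ≠ r := by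
  obtain ⟨T, hT⟩ := H.exists_fr K hD hDL
  obtain ⟨x, hx, rfl⟩ := (H.pair K hD hD' hDL hDL' hne).exists_conj K
  refine ⟨T, (⟨x, hx⟩ : L) • T, (⟨x, hx⟩ : L) • pt D L, hT, ?_, ?_⟩
  · refine fr_congr (hT.smul ⟨x, hx⟩) ?_ ?_ ?_
    · ext v
      rw [AddSubgroup.mem_pointwise_smul_iff_inv_smul_mem]
      change x⁻¹ • v ∈ EX V D ↔ _
      rw [← smul_mem_EX (g := x), smul_inv_smul]
    · ext v
      rw [AddSubgroup.mem_pointwise_smul_iff_inv_smul_mem]
      change x⁻¹ • v ∈ FX V D ↔ _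
      rw [← smul_mem_FX (g := x), smul_inv_smul]
    · ext y
      rw [mem_conj, mem_subgroupOf, mem_subgroupOf, mem_conj]
      rfl
  · intro h
    apply hne
    have h1 : (1 : L) • pt D L = (⟨x, hx⟩ : L) • pt D L := by rw [one_smul]; exact h
    rw [smul_pt_eq, OneMemClass.coe_one, map_one, one_smul] at h1
    exact h1

theorem faithL (K : Cls V q UU) : ∀ y : L, (∀ v : V, y • v = v) → y = 1 := fun y hy =>
  Subtype.ext (K.faith y hy)

/-- **`|D| = q²`** -/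
theorem card_D (H : AL V UU L) (K : Cls V q UU) (hD : D ∈ UU) (hDL : D ≤ L) : Nat.card D = q ^ 2 := by
  obtain ⟨D', hD', hDL', hne⟩ := H.exists_ne D
  obtain ⟨T, T', r, h, h', hpr⟩ := H.exists_frs K hD hD' hDL hDL' hne.symm
  have h1 := (h.main (H.pts K hD hDL) K.two h' hpr).1
  rwa [Nat.card_congr (subgroupOfEquivOfLe hDL).toEquiv] at h1

/-- **`|F_D| = q`** -/
theorem card_FX (H : AL V UU L) (K : Cls V q UU) (hD : D ∈ UU) (hDL : D ≤ L) : Nat.card (FX V D) = q := by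
  obtain ⟨T, h⟩ := H.exists_fr K hD hDL
  exact h.card_F (H.pts K hD hDL) K.two (faithL K)

/-- **`F_D = [E_D, b]`** -/
theorem FX_eq (H : AL V UU L) (K : Cls V q UU) (hD : D ∈ UU) (hDL : D ≤ L) {b : Y} (hb : b ∈ D) (hb1 : b ≠ 1) :
    FX V D = (EX V D).map (dl b) := by
  obtain ⟨T, h⟩ := H.exists_fr K hD hDL
  exact h.F_eq (H.pts K hD hDL) K.two (faithL K) (b := ⟨b, hDL hb⟩) (mem_subgroupOf.2 hb)
    fun h1 => hb1 (congrArg Subtype.val h1)

/-- **`V = F_D + E_D'`** -/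
theorem sum (H : AL V UU L) (K : Cls V q UU) (hD : D ∈ UU) (hD' : D' ∈ UU)
    (hDL : D ≤ L) (hDL' : D' ≤ L) (hne : D ≠ D') (v : V) : ∃ x ∈ FX V D, ∃ y ∈ EX V D', x + y = v := by
  obtain ⟨T, T', r, h, h', hpr⟩ := H.exists_frs K hD hD' hDL hDL' hne
  exact h.sum (H.pts K hD hDL) K.two (faithL K) h' hpr v

theorem card_EX (H : AL V UU L) (K : Cls V q UU) (hD : D ∈ UU) (hDL : D ≤ L) : Nat.card (EX V D) = q ^ 3 := by
  obtain ⟨T, h⟩ := H.exists_fr K hD hDL
  rw [h.card_E K.two, H.card_FX K hD hDL, Nat.card_congr (subgroupOfEquivOfLe hDL).toEquiv, H.card_D K hD hDL]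
  ring

/-- **`|V| = q⁴`** -/
theorem card_V (H : AL V UU L) (K : Cls V q UU) : Nat.card V = q ^ 4 := by
  obtain ⟨A, C, P, -⟩ := H.ex
  obtain ⟨T, h⟩ := H.exists_fr K P.A_mem P.A_le
  rw [h.card_V, H.card_EX K P.A_mem P.A_le]
  ring

/-- `[x, D] + F_D = E_D` for `x ∉ E_D`: an invariant subgroup containing `x` contains `E_D` -/
theorem EX_le (H : AL V UU L) (K : Cls V q UU) (hD : D ∈ UU) (hDL : D ≤ L) {W : AddSubgroup V}
    (hW : ∀ b ∈ D, ∀ w ∈ W, b • w ∈ W) {x : V} (hx : x ∈ W) (hxE : x ∉ EX V D) : EX V D ≤ W := by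
  have hm := K.mem D hD
  have hWd : ∀ b ∈ D, ∀ w ∈ W, dl b w ∈ W := fun b hb w hw => W.add_mem (hW b hb w hw) hw
  have hF : FX V D ≤ W := by
    obtain ⟨b, hb, hb1⟩ := hm.exists_ne_one
    rw [H.FX_eq K hD hDL hb hb1]
    rintro _ ⟨e, he, rfl⟩
    obtain ⟨c, hc, hf⟩ := hm.surj x hxE e he
    have h1 : dl b e = dl b (dl c x) := by
      rw [← add_eq_zero' K.two, ← map_add, add_comm]
      exact hm.dl0 K.two hb hf
    change dl b e ∈ W
    rw [h1]
    exact hWd b hb _ (hWd c hc x hx)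
  intro e he
  obtain ⟨c, hc, hf⟩ := hm.surj x hxE e he
  have h1 : e = dl c x + (dl c x + e) := by rw [← add_assoc, K.two, zero_add]
  rw [h1]
  exact W.add_mem (hWd c hc x hx) (hF hf)

/-- **`L` is irreducible on `V`** -/
theorem irr (H : AL V UU L) (K : Cls V q UU) {W : AddSubgroup V} (hW : ∀ l ∈ L, ∀ w ∈ W, l • w ∈ W)
    (hne : W ≠ ⊥) : W = ⊤ := by
  obtain ⟨A, C, P, -⟩ := H.ex
  have key : ∀ D ∈ UU, ∀ D' ∈ UU, D ≤ L → D' ≤ L → D ≠ D' → EX V D ≤ W := by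
    intro D hD D' hD' hDL hDL' hDD
    obtain ⟨x, hx, hx0, hxf⟩ := exists_fix_ne K (K.mem D' hD').two_pow W (fun r hr => hW r (hDL' hr)) hne
    refine H.EX_le K hD hDL (fun b hb => hW b (hDL hb)) hx fun hxE => hx0 ?_
    exact H.disj K hD hD' hDL hDL' hDD hxE hxf
  have h1 := key A P.A_mem C P.C_mem P.A_le P.C_le P.ne
  have h3 := key C P.C_mem A P.A_mem P.C_le P.A_le P.ne.symm
  rw [eq_top_iff]
  intro v _
  obtain ⟨x, hx, y, hy, rfl⟩ := H.sum K P.A_mem P.C_mem P.A_le P.C_le P.ne v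
  exact W.add_mem (h1 ((K.mem A P.A_mem).FE K.two hx)) (h3 hy)

/-- **`D` is transitive on the other members** -/
theorem trans_mem (H : AL V UU L) (K : Cls V q UU) (hD : D ∈ UU) (hDL : D ≤ L) {C C' : Subgroup Y}
    (hC : C ∈ UU) (hC' : C' ∈ UU) (hCL : C ≤ L) (hCL' : C' ≤ L) (h1 : C ≠ D) (h2 : C' ≠ D) :
    ∃ b ∈ D, MulAut.conj b • C = C' := by
  obtain ⟨T, h⟩ := H.exists_fr K hD hDL
  obtain ⟨x, hx, rfl⟩ := (H.pair K hD hC hDL hCL h1.symm).exists_conj K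
  obtain ⟨y, hy, rfl⟩ := (H.pair K hD hC' hDL hCL' h2.symm).exists_conj K
  have hne : ∀ z : L, MulAut.conj (z : Y) • D ≠ D → pt D L ≠ z • pt D L := by
    intro z hz h3
    have h4 : (1 : L) • pt D L = z • pt D L := by rw [one_smul]; exact h3
    rw [smul_pt_eq, OneMemClass.coe_one, map_one, one_smul] at h4
    exact hz h4.symm
  obtain ⟨b, hb, h3⟩ := h.trans (H.pts K hD hDL) K.two (h.smul ⟨y, hy⟩) (hne ⟨y, hy⟩ h2)
    (r := (⟨x, hx⟩ : L) • pt D L) (hne ⟨x, hx⟩ h1).symm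
  refine ⟨b, mem_subgroupOf.1 hb, ?_⟩
  rw [← mul_smul, smul_pt_eq] at h3
  rw [← mul_smul, ← map_mul]
  exact h3

/-- **`N_L(D) ∩ N_L(D')` is transitive on `D#`** -/
theorem exists_conj (H : AL V UU L) (K : Cls V q UU) (hD : D ∈ UU) (hD' : D' ∈ UU)
    (hDL : D ≤ L) (hDL' : D' ≤ L) (hne : D ≠ D') {b c : Y} (hb : b ∈ D) (hc : c ∈ D) (hb1 : b ≠ 1)
    (hc1 : c ≠ 1) : ∃ g ∈ L, g ∈ normalizer (D : Set Y) ∧ g ∈ normalizer (D' : Set Y) ∧ g * b * g⁻¹ = c := by
  -- the action of `L` on the members in `L`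
  let W := {E : Subgroup Y // E ∈ UU ∧ E ≤ L}
  let _ : MulAction L W :=
    { smul := fun l E => ⟨MulAut.conj (l : Y) • E.1, K.conj _ E.2.1 _, Pair.conj_le E.2.2 l.2⟩
      one_smul := fun E => Subtype.ext (by
        change MulAut.conj ((1 : L) : Y) • E.1 = E.1
        rw [OneMemClass.coe_one, map_one, one_smul])
      mul_smul := fun l m E => Subtype.ext (by
        change MulAut.conj ((l * m : L) : Y) • E.1 = MulAut.conj (l : Y) • MulAut.conj (m : Y) • E.1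
        rw [MulMemClass.coe_mul, map_mul, mul_smul]) }
  have hs : ∀ (l : L) (E : W), ((l • E : W) : Subgroup Y) = MulAut.conj (l : Y) • E.1 := fun _ _ => rfl
  have hfix : ∀ (l : L) (E : W), l • E = E ↔ (l : Y) ∈ normalizer (E.1 : Set Y) := by
    intro l E
    rw [← conj_eq_iff, ← hs]
    exact ⟨fun h => congrArg Subtype.val h, fun h => Subtype.ext h⟩
  obtain ⟨g, g1, g2, g3⟩ := HE.Trans.exists_conj (Y := L) (W := W) (R := fun E => E.1.subgroupOf L)
    (fun y r => by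
      ext z
      rw [mem_conj, mem_subgroupOf, mem_subgroupOf, hs, mem_conj]
      rfl)
    (fun r b hb hb1 s h1 => by
      rw [hfix] at h1
      by_contra hne
      refine hb1 (Subtype.ext ?_)
      exact H.inf_norm K r.2.1 s.2.1 r.2.2 s.2.2 (fun h => hne (Subtype.ext h.symm)) (mem_subgroupOf.1 hb) h1)
    (fun r b hb => (hfix b r).2 (Subgroup.le_normalizer (mem_subgroupOf.1 hb)))
    (fun r b hb => Subtype.ext ((K.mem _ r.2.1).sq b (mem_subgroupOf.1 hb)))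
    (fun r a ha b hb => Subtype.ext ((K.mem _ r.2.1).comm a (mem_subgroupOf.1 ha) b (mem_subgroupOf.1 hb)))
    (fun r s t h1 h3 => by
      obtain ⟨b, hb, h4⟩ := H.trans_mem K r.2.1 r.2.2 s.2.1 t.2.1 s.2.2 t.2.2 (fun h => h1 (Subtype.ext h))
        (fun h => h3 (Subtype.ext h))
      exact ⟨⟨b, r.2.2 hb⟩, mem_subgroupOf.2 hb, Subtype.ext h4⟩)
    ⟨D, hD, hDL⟩ ⟨D', hD', hDL'⟩ (fun h => hne (congrArg Subtype.val h)) ⟨b, hDL hb⟩ (mem_subgroupOf.2 hb)
    ⟨c, hDL hc⟩ (mem_subgroupOf.2 hc) (fun h => hb1 (congrArg Subtype.val h))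
    (fun h => hc1 (congrArg Subtype.val h))
  exact ⟨g, g.2, (hfix _ _).1 g1, (hfix _ _).1 g2, congrArg Subtype.val g3⟩

end AL

end Cfsg.Agent.Omega.NO1.Alpha
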