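import Cfsg.Agent.Omega.NO1.Alpha.Bridge
import Cfsg.Agent.Omega.NO1.Alpha.Irr

/-!
# THEOREM ALPHA (bb OMEGA #18722): the exit for frames, `q = 2`

`h : Fr S P M F`, `R : RepM S P (zl S M) Y V T Mx`, `AL V (mbs R W_F) L` : an ALPHA pair in the group induced by `P`
on `V = zl S M`.

* `VP_eq` : `V_P = V` (irreducibility of `V` under `L`);
* `card_F` : `|F| = q`;
* `no_al` : no ALPHA pair in the situation of `FrTwo`.
-/

set_option autoImplicit false
set_option linter.unusedSectionVars false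

namespace Cfsg.Agent.Omega.NO1.Alpha

open Subgroup Cfsg Cfsg.Agent.ZN Cfsg.Agent.Omega.Frame
open Cfsg.Agent.Omega.NO1.HE (mem_conj)
open Cfsg.Agent.Omega.NOne.Flat (Hyp Bad WW NN)
open scoped Pointwise

universe u

theorem card_FX_conj {Y V : Type u} [Group Y] [AddCommGroup V] [DistribMulAction Y V] (B : Subgroup Y) (g : Y) :
    Nat.card (FX V (MulAut.conj g • B)) = Nat.card (FX V B) := by
  have h1 : FX V (MulAut.conj g • B) = (FX V B).map (DistribMulAction.toAddEquiv V g : V →+ V) := by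
    ext w
    rw [AddSubgroup.mem_map]
    constructor
    · intro hw
      refine ⟨g⁻¹ • w, ?_, smul_inv_smul g w⟩
      rw [← smul_mem_FX (g := g), smul_inv_smul]
      exact hw
    · rintro ⟨v, hv, rfl⟩
      exact smul_mem_FX.2 hv
  rw [h1]
  exact (Nat.card_congr ((FX V B).equivMapOfInjective _ (DistribMulAction.toAddEquiv V g).injective).toEquiv).symm

section

variable {G : Type u} [Group G] [Finite G] {S : Sylow 2 G} {P M F : Subgroup G}
  {Y V : Type u} [Group Y] [AddCommGroup V] [DistribMulAction Y V] {T : Sylow 2 Y} {Mx : Subgroup Y}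

/-- `V_P` as a submodule -/
theorem ag_inv {VV : Subgroup G} (R : RepM (S : Subgroup G) P VV Y V T Mx) {A : Subgroup G}
    (hA : P ≤ normalizer (A : Set G)) (y : Y) {m : V} (hm : m ∈ R.ag A) : y • m ∈ R.ag A := by
  obtain ⟨p, rfl⟩ := R.acs y
  rw [R.mem_ag, R.smul]
  exact (mem_normalizer_iff.1 (hA p.2) _).1 hm

variable (h : Fr S P M F) (R : RepM (S : Subgroup G) P (zl (S : Subgroup G) M) Y V T Mx) {q : ℕ}
  (K : Cls V q (mbs R (WW (zl (S : Subgroup G) M) F))) {L : Subgroup Y}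
  (H : AL V (mbs R (WW (zl (S : Subgroup G) M) F)) L)
include h K H

/-- **`V_P = V`** -/
theorem VP_eq : zl (S : Subgroup G) P = zl (S : Subgroup G) M := by
  have := R.finite
  have := R.finiteY
  refine le_antisymm h.VP_le fun v hv => ?_
  have h1 : R.ag (zl (S : Subgroup G) P) = ⊤ := by
    refine H.irr K (fun l _ w hw => ag_inv R ((MinSimple.VModule.le_normalizer_zl _ _)) l hw) fun h2 => ?_
    have h3 : Nat.card (zl (S : Subgroup G) P) = 1 := by
      rw [← R.card_ag h.VP_le, h2, AddSubgroup.card_bot]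
    refine MinSimple.Basic.zc_ne_bot S.isPGroup' (h.cfg.ctx.sylow_ne_bot S) (le_bot_iff.1 ?_)
    rw [← Subgroup.card_eq_one.1 h3]
    exact h.cfg.Z_le_V
  obtain ⟨m, rfl⟩ := R.surj v hv
  have h2 : m ∈ R.ag (zl (S : Subgroup G) P) := by rw [h1]; trivial
  exact h2

/-- **`|F| = q`** -/
theorem card_F : Nat.card F = q := by
  have := R.finite
  have := R.finiteY
  obtain ⟨A, C, P', -⟩ := H.ex
  have h1 := H.card_FX K P'.A_mem P'.A_le
  obtain ⟨y, hy⟩ := P'.A_mem
  rw [hy, card_FX_conj, FX_im R h.hyp (h.W_le_S.trans h.cfg.S_le), R.card_ag h.hyp.F_le_V] at h1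
  exact h1

/-- **`|V| = q⁴`** -/
theorem card_VP : Nat.card (zl (S : Subgroup G) P) = q ^ 4 := by
  have := R.finite
  have := R.finiteY
  rw [VP_eq h R K H, ← R.card_M, H.card_V K]

theorem q_eq : q = (NOne.Flat.EE (zl (S : Subgroup G) M) F).relIndex (zl (S : Subgroup G) P) := by
  obtain ⟨A, C, P', -⟩ := H.ex
  have h1 := (K.mem A P'.A_mem).ind
  obtain ⟨y, hy⟩ := P'.A_mem
  rw [hy, index_EX, EX_im R h.hyp (h.W_le_S.trans h.cfg.S_le), index_ag R h.hyp (h.W_le_S.trans h.cfg.S_le)] at h1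
  rw [VP_eq h R K H, h1]

/-- **no ALPHA pair in the situation of `FrTwo`.** -/
theorem no_al (h2 : (NOne.Flat.EE (zl (S : Subgroup G) M) F).relIndex (zl (S : Subgroup G) P) = 2)
    (hx : Nat.card (zc (S : Subgroup G)) ≠ 2 ∨ 4 ≤ (NO1.EE (S : Subgroup G) P).relIndex (zl (S : Subgroup G) P)) :
    False := by
  have hF : Nat.card F = 2 := by rw [card_F h R K H, q_eq h R K H, h2]
  obtain ⟨h3, h4⟩ := card_of_F h hF h2
  rcases hx with h5 | h5
  · exact h5 h3
  · omega

end

end Cfsg.Agent.Omega.NO1.Alpha
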