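import Cfsg.Agent.Omega.NO1.Alpha.Four
import Cfsg.Agent.Lib.NormalAbelian

/-!
# THEOREM ALPHA (text #18722, helper446), (4), (5): the member at a Sylow group, the point of a member
-/

set_option autoImplicit false
set_option linter.unusedSectionVars false

namespace Cfsg.Agent.Omega.NO1.Alpha

open Subgroup Cfsg.Agent.ZN
open Cfsg.Agent.Omega.NO1.HE (dl dl_apply dl_one dl_eq_zero dl_comm dl_mul dl_self smul_eq add_eq_zero' mem_conj
  Pts At mem_smul_sylow)
open scoped Pointwise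

universe u

section groups

variable {Y : Type u} [Group Y]

theorem exists_central [Finite Y] {R N : Subgroup Y} (hR : IsPGroup 2 R) (hNR : N ≤ R)
    (hn : R ≤ normalizer (N : Set Y)) (hN : N ≠ ⊥) : ∃ z ∈ N, z ≠ 1 ∧ ∀ r ∈ R, r * z = z * r := by
  have : Fact (Nat.Prime 2) := ⟨Nat.prime_two⟩
  have h1 : (N.subgroupOf R).Normal := normal_subgroupOf_of_le_normalizer hn
  have h2 : (N.subgroupOf R) ≠ ⊥ := by
    intro h
    apply hN
    rw [subgroupOf_eq_bot, disjoint_iff, inf_of_le_left hNR] at h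
    exact h
  have hnil : Group.IsNilpotent R := hR.isNilpotent
  have h4 := Lib.NormalAbelian.normal_inf_center_ne_bot (N.subgroupOf R) h2
  obtain ⟨e, he⟩ := Subgroup.ne_bot_iff_exists_ne_one.mp h4
  have h5 := e.2
  rw [mem_inf, mem_subgroupOf] at h5
  refine ⟨((e : R) : Y), h5.1, fun h => he (Subtype.ext (Subtype.ext h)), fun r hr => ?_⟩
  exact congrArg Subtype.val (mem_center_iff.mp h5.2 ⟨r, hr⟩)

theorem exists_norm [Finite Y] {R N : Subgroup Y} (hR : IsPGroup 2 R) (hNR : N ≤ R) (hne : N ≠ R) :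
    ∃ x ∈ R, x ∉ N ∧ MulAut.conj x • N = N := by
  have : Fact (Nat.Prime 2) := ⟨Nat.prime_two⟩
  have : Group.IsNilpotent R := hR.isNilpotent
  have h3 : N.subgroupOf R < normalizer (N.subgroupOf R : Set R) :=
    Group.normalizerCondition_of_isNilpotent _ (lt_top_iff_ne_top.2 fun h => hne
      (le_antisymm hNR (subgroupOf_eq_top.1 h)))
  obtain ⟨x, hx, hxN⟩ := SetLike.exists_of_lt h3
  refine ⟨x, x.2, fun h => hxN (mem_subgroupOf.2 h), ?_⟩
  rw [conj_eq_iff, mem_normalizer_iff]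
  intro y
  constructor
  · intro hy
    have h5 := (mem_normalizer_iff.1 hx ⟨y, hNR hy⟩).1 (mem_subgroupOf.2 hy)
    exact mem_subgroupOf.1 h5
  · intro hy
    have h6 := mem_normalizer_iff.1 (inv_mem hx) ⟨(x : Y) * y * (x : Y)⁻¹, hNR hy⟩
    have h5 := mem_subgroupOf.1 (h6.1 (mem_subgroupOf.2 hy))
    have e : (x : Y)⁻¹ * ((x : Y) * y * (x : Y)⁻¹) * ((x : Y)⁻¹)⁻¹ = y := by group
    change (x : Y)⁻¹ * ((x : Y) * y * (x : Y)⁻¹) * ((x : Y)⁻¹)⁻¹ ∈ N at h5
    rwa [e] at h5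

theorem conj_conj' (g h : Y) (H : Subgroup Y) : MulAut.conj g • (MulAut.conj h • H) = MulAut.conj (g * h) • H := by
  rw [map_mul, mul_smul]

end groups

section modules

variable {Y : Type u} [Group Y] {V : Type u} [AddCommGroup V] [DistribMulAction Y V]

/-- A 2-group fixes a nonzero vector of the quotient. -/
theorem exists_fixed_mod [Finite V] (h2 : ∀ v : V, v + v = 0) {R : Subgroup Y} (hR : IsPGroup 2 R)
    (W : AddSubgroup V) (hW : ∀ r ∈ R, ∀ w ∈ W, r • w ∈ W) (hne : ∃ v, v ∉ W) :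
    ∃ v, v ∉ W ∧ ∀ r ∈ R, dl r v ∈ W := by
  have hcomap : ∀ r : R, W ≤ W.comap (DistribSMul.toAddMonoidHom V (r : Y)) := fun r w hw => hW r r.2 w hw
  let _ : MulAction R (V ⧸ W) :=
    { smul := fun r x => QuotientAddGroup.map W W (DistribSMul.toAddMonoidHom V (r : Y)) (hcomap r) x
      one_smul := by
        intro x
        obtain ⟨v, rfl⟩ := QuotientAddGroup.mk_surjective x
        exact congrArg QuotientAddGroup.mk (one_smul Y v)
      mul_smul := by
        intro r s x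
        obtain ⟨v, rfl⟩ := QuotientAddGroup.mk_surjective x
        exact congrArg QuotientAddGroup.mk (mul_smul (r : Y) (s : Y) v) }
  have hs : ∀ (r : R) (v : V), r • (QuotientAddGroup.mk v : V ⧸ W) = QuotientAddGroup.mk ((r : Y) • v) :=
    fun _ _ => rfl
  obtain ⟨w, hw⟩ := hne
  have h1 : 2 ∣ Nat.card (V ⧸ W) := by
    have h3 : addOrderOf (QuotientAddGroup.mk w : V ⧸ W) = 2 := by
      refine addOrderOf_eq_prime ?_ ?_
      · rw [two_nsmul]; exact congrArg QuotientAddGroup.mk (h2 w)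
      · exact fun h => hw ((QuotientAddGroup.eq_zero_iff _).1 h)
    rw [← h3]
    exact addOrderOf_dvd_natCard _
  have : Fact (Nat.Prime 2) := ⟨Nat.prime_two⟩
  obtain ⟨x, hx, hne⟩ := hR.exists_fixed_point_of_prime_dvd_card_of_fixed_point (V ⧸ W) h1 (a := 0) (by
    intro r
    exact congrArg QuotientAddGroup.mk (smul_zero (r : Y)))
  obtain ⟨v, rfl⟩ := QuotientAddGroup.mk_surjective x
  refine ⟨v, fun h => hne ((QuotientAddGroup.eq_zero_iff _).2 h).symm, fun r hr => ?_⟩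
  have h4 := hx ⟨r, hr⟩
  rw [hs, QuotientAddGroup.eq] at h4
  have e : -((r : Y) • v) = (r : Y) • v := neg_eq_of_add_eq_zero_left (h2 _)
  rw [e] at h4
  exact h4

end modules

variable {Y : Type u} [Group Y] {V : Type u} [AddCommGroup V] [DistribMulAction Y V]

namespace Inp

variable {q : ℕ} {UU : Set (Subgroup Y)} {B C : Subgroup Y} (I : Inp V q UU)
include I

section fin

variable [Finite Y] [Finite V] (hB : B ∈ UU)

theorem ext_of_le {B C : Subgroup Y} (hB : B ∈ UU) (hC : C ∈ UU) (h : FX V B ≤ FX V C) : B = C :=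
  I.uniq B hB C hC (AddSubgroup.eq_of_le_of_card_ge h (by rw [I.cardF B hB, I.cardF C hC]))

include hB

theorem index_F : (FX V B).index = q ^ 3 := by
  have h1 := AddSubgroup.card_mul_index (FX V B)
  rw [I.cardF B hB, I.cardV] at h1
  refine Nat.eq_of_mul_eq_mul_left I.q_pos ?_
  rw [h1]
  ring

/-- a 2-group commuting with `B` centralises `F_B` -/
theorem fix_of_comm {D : Subgroup Y} (hD : IsPGroup 2 D) (hc : ∀ d ∈ D, ∀ b ∈ B, d * b = b * d) {f : V}
    (hf : f ∈ FX V B) {d : Y} (hd : d ∈ D) : d • f = f := by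
  have M := I.mem B hB
  have hF : ∀ d ∈ D, ∀ f ∈ FX V B, d • f ∈ FX V B := fun d hd f hf b hb => by
    rw [← mul_smul, ← hc d hd b hb, mul_smul, hf b hb]
  have hdl : ∀ d ∈ D, ∀ b ∈ B, ∀ v : V, dl b (d • v) = d • dl b v := fun d hd b hb v => by
    rw [dl_apply, dl_apply, smul_add, ← mul_smul, ← hc d hd b hb, mul_smul]
  have hE : ∀ d ∈ D, ∀ e ∈ EX V B, d • e ∈ EX V B := fun d hd e he b hb => by
    rw [hdl d hd b hb]
    exact hF d hd _ (he b hb)
  obtain ⟨v, hv, hvD⟩ := exists_fixed_mod I.two hD (EX V B) hE M.ne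
  have h1 : ∀ d ∈ D, ∀ e ∈ EX V B, dl d e ∈ FX V B := by
    intro d hd e he
    obtain ⟨u, hu, hue⟩ := M.surj v hv e he
    have h2 : dl d (dl u v) ∈ FX V B := by
      rw [dl_comm (hc d hd u hu)]
      exact M.dlF hu (hvD d hd)
    have h3 : dl d (dl u v + e) ∈ FX V B := by
      rw [dl_apply]
      exact (FX V B).add_mem (hF d hd _ hue) hue
    rw [map_add] at h3
    exact (add_mem_iff I.two h3).1 h2
  obtain ⟨b, hb, hb1⟩ := M.exists_ne_one
  obtain ⟨e, he, rfl⟩ := I.EF B hB b hb hb1 f hf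
  rw [← dl_eq_zero I.two, dl_comm (hc d hd b hb)]
  exact M.dl0 I.two hb (h1 d hd e he)

/-- (4) : no offender -/
theorem card_lt {D : Subgroup Y} (hD : ∀ a ∈ D, ∀ b ∈ D, a * b = b * a) (hD2 : ∀ a ∈ D, a * a = 1)
    (hc : ∀ d ∈ D, ∀ b ∈ B, d * b = b * d) (hdis : D ⊓ B = ⊥) : Nat.card D < q := by
  have M := I.mem B hB
  have hDp : IsPGroup 2 D := fun b => ⟨1, by rw [pow_one, pow_two]; exact Subtype.ext (hD2 _ b.2)⟩
  have hcomm : ∀ (b : B) (d : D), Commute (B.subtype b) (D.subtype d) := fun b d =>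
    (hc d d.2 b b.2).symm
  let φ : B × D →* Y := MonoidHom.noncommCoprod B.subtype D.subtype hcomm
  have hφ : ∀ p : B × D, φ p = p.1 * p.2 := fun _ => rfl
  have hinj : Function.Injective φ := by
    rintro ⟨a, b⟩ ⟨c, d⟩ h
    have h3 : (a : Y) * b = c * d := h
    have h4 : (c : Y)⁻¹ * a = d * (b : Y)⁻¹ := by
      rw [inv_mul_eq_iff_eq_mul, ← mul_assoc, ← h3, mul_inv_cancel_right]
    have h5 : (c : Y)⁻¹ * a ∈ D ⊓ B :=
      Subgroup.mem_inf.2 ⟨h4 ▸ Subgroup.mul_mem _ d.2 (Subgroup.inv_mem _ b.2),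
        Subgroup.mul_mem _ (Subgroup.inv_mem _ c.2) a.2⟩
    rw [hdis, mem_bot] at h5
    have h6 : (a : Y) = c := by rwa [inv_mul_eq_one, eq_comm] at h5
    have h7 : (b : Y) = d := by
      rw [h6] at h3
      exact mul_left_cancel h3
    exact Prod.ext (Subtype.ext h6) (Subtype.ext h7)
  have hcard : Nat.card φ.range = q ^ 2 * Nat.card D := by
    rw [← I.cardB B hB, ← Nat.card_prod]
    exact (Nat.card_congr (MonoidHom.ofInjective hinj).toEquiv).symm
  have h1 := I.noff φ.range (by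
    rintro _ ⟨⟨a, b⟩, rfl⟩ _ ⟨⟨c, d⟩, rfl⟩
    rw [← map_mul, ← map_mul]
    congr 1
    exact Prod.ext (Subtype.ext (M.comm a a.2 c c.2)) (Subtype.ext (hD b b.2 d d.2))) (by
    rintro _ ⟨⟨a, b⟩, rfl⟩
    rw [← map_mul]
    have : ((a, b) * (a, b) : B × D) = 1 := Prod.ext (Subtype.ext (M.sq a a.2)) (Subtype.ext (hD2 b b.2))
    rw [this, map_one]) (by
    intro h
    obtain ⟨b, hb, hb1⟩ := M.exists_ne_one
    apply hb1
    have h2 : b ∈ φ.range := ⟨(⟨b, hb⟩, 1), by rw [hφ]; simp⟩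
    rwa [h, mem_bot] at h2)
  have h2 : FX V B ≤ FX V φ.range := by
    rintro f hf _ ⟨⟨a, b⟩, rfl⟩
    rw [hφ, mul_smul]
    rw [I.fix_of_comm hB hDp hc hf b.2]
    exact hf a a.2
  have h3 : (FX V φ.range).index ≤ q ^ 3 := by
    rw [← I.index_F hB]
    exact AddSubgroup.index_antitone h2
  rw [hcard] at h1
  have h4 : q ^ 2 * Nat.card D < q ^ 2 * q := by
    calc q ^ 2 * Nat.card D < q ^ 3 := lt_of_lt_of_le h1 h3
      _ = q ^ 2 * q := by ring
  exact lt_of_mul_lt_mul_left h4 (Nat.zero_le _)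

theorem q_lt_sq : q < q ^ 2 := by
  have h := I.two_le_q hB
  nlinarith

/-- (4) -/
theorem eq_of_norm (hC : C ∈ UU) (h1 : B ≤ normalizer (C : Set Y)) (h2 : C ≤ normalizer (B : Set Y)) : B = C := by
  have MB := I.mem B hB
  have MC := I.mem C hC
  by_cases hd : C ⊓ B = ⊥
  · exfalso
    have hc : ∀ c ∈ C, ∀ b ∈ B, c * b = b * c := by
      intro c hc b hb
      have h3 : c * b * c⁻¹ * b⁻¹ ∈ C ⊓ B := by
        refine Subgroup.mem_inf.2 ⟨?_, ?_⟩
        · have h4 := (mem_normalizer_iff.1 (h1 hb) c⁻¹).1 (inv_mem hc)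
          have e : c * b * c⁻¹ * b⁻¹ = c * (b * c⁻¹ * b⁻¹) := by group
          rw [e]
          exact Subgroup.mul_mem _ hc h4
        · exact Subgroup.mul_mem _ ((mem_normalizer_iff.1 (h2 hc) b).1 hb) (Subgroup.inv_mem _ hb)
      rw [hd, mem_bot, mul_inv_eq_one, mul_inv_eq_iff_eq_mul] at h3
      exact h3
    have h3 := I.card_lt hB MC.comm MC.sq hc hd
    rw [I.cardB C hC] at h3
    have := I.q_lt_sq hB
    omega
  · obtain ⟨b, hbC, hbB, hb1⟩ : ∃ b, b ∈ C ∧ b ∈ B ∧ b ≠ 1 := by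
      obtain ⟨x, hx⟩ := Subgroup.ne_bot_iff_exists_ne_one.mp hd
      exact ⟨x, (Subgroup.mem_inf.1 x.2).1, (Subgroup.mem_inf.1 x.2).2, fun h => hx (Subtype.ext h)⟩
    have hFE : FX V B ≤ EX V C := fun f hf => MC.mem_of_fix I.two hbC hb1 (hf b hbB)
    have hE : EX V B = EX V C := by
      by_cases hle : EX V C ≤ EX V B
      · exact (AddSubgroup.eq_of_le_of_card_ge hle (by rw [I.cardE hB, I.cardE hC])).symm
      · obtain ⟨v, hvC, hvB⟩ := SetLike.not_le_iff_exists.1 hle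
        refine AddSubgroup.eq_of_le_of_card_ge (fun e he => ?_) (by rw [I.cardE hB, I.cardE hC])
        obtain ⟨u, hu, hue⟩ := MB.surj v hvB e he
        have h3 : dl u v ∈ EX V C := by
          rw [dl_apply]
          exact (EX V C).add_mem (smul_EX_of (h1 hu) hvC) hvC
        exact (add_mem_iff I.two (hFE hue)).1 h3
    apply I.ext_of_le hB hC
    intro f hf
    obtain ⟨e, he, rfl⟩ := I.EF B hB b hbB hb1 f hf
    rw [hE] at he
    exact MC.dlF hbC he

theorem norm_of_le {T : Sylow 2 Y} (hT : B ≤ T) : (T : Subgroup Y) ≤ normalizer (B : Set Y) := by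
  set N : Subgroup Y := (T : Subgroup Y) ⊓ normalizer (B : Set Y) with hN
  by_contra hne
  have hNT : N ≠ T := fun h => hne (h ▸ inf_le_right)
  obtain ⟨x, hxT, hxN, hx⟩ : ∃ x ∈ (T : Subgroup Y), x ∉ N ∧ MulAut.conj x • N = N :=
    exists_norm T.isPGroup' (inf_le_left : N ≤ T) hNT
  have hBN : B ≤ N := le_inf hT Subgroup.le_normalizer
  have h1 : MulAut.conj x • B ≤ N := by
    rw [← hx]
    exact Subgroup.pointwise_smul_le_pointwise_smul_iff.2 hBN
  have h2 : N ≤ normalizer ((MulAut.conj x • B : Subgroup Y) : Set Y) := by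
    intro n hn
    rw [← hx, mem_conj] at hn
    rw [← conj_eq_iff, conj_conj']
    have h3 := conj_eq_iff.2 (Subgroup.mem_inf.1 hn).2
    have e : n * x = x * (x⁻¹ * n * x) := by group
    rw [e, ← conj_conj', h3]
  have h3 := I.eq_of_norm hB (I.conj B hB x) (hBN.trans h2) (h1.trans inf_le_right)
  exact hxN (Subgroup.mem_inf.2 ⟨hxT, conj_eq_iff.1 h3.symm⟩)

/-- (4) : one member in a Sylow group -/
theorem eq_of_sylow (hC : C ∈ UU) {T : Sylow 2 Y} (hT : B ≤ T) (hT' : C ≤ T) : B = C :=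
  I.eq_of_norm hB hC (hT.trans (I.norm_of_le hC hT')) (hT'.trans (I.norm_of_le hB hT))

theorem exists_mem_sylow (T : Sylow 2 Y) : ∃ C ∈ UU, C ≤ T := by
  obtain ⟨T0, hT0⟩ := (I.mem B hB).two_pow.exists_le_sylow
  obtain ⟨g, rfl⟩ := MulAction.exists_smul_eq Y T0 T
  refine ⟨_, I.conj B hB g, fun y hy => ?_⟩
  rw [mem_conj] at hy
  exact mem_smul_sylow.2 (hT0 hy)

theorem normalizer_ne : normalizer (B : Set Y) ≠ ⊤ := by
  intro h
  have hq := I.two_le_q hB
  rcases I.irr (FX V B) (fun y x hx => smul_FX_of (h ▸ mem_top y) hx) with h1 | h1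
  · have h2 := I.cardF B hB
    rw [h1, AddSubgroup.card_bot] at h2
    omega
  · have h2 := I.cardF B hB
    rw [h1, AddSubgroup.card_top, I.cardV] at h2
    have h3 : q ^ 1 < q ^ 4 := Nat.pow_lt_pow_right (by omega) (by norm_num)
    rw [pow_one] at h3
    omega

end fin

section pts

variable [Finite Y] [Finite V] {Ω : Type u} [MulAction Y Ω] (P : Pts Y Ω)
  (mx : ∀ (T : Sylow 2 Y) (p : Ω), At T p → ∀ K : Subgroup Y, (T : Subgroup Y) ≤ K → K ≠ ⊤ → ∀ k ∈ K, k • p = p)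

include mx in
theorem norm_fix (hB : B ∈ UU) {T : Sylow 2 Y} (hT : B ≤ T) {p : Ω} (hp : At T p) {n : Y}
    (hn : n ∈ normalizer (B : Set Y)) : n • p = p :=
  mx T p hp _ (I.norm_of_le hB hT) (I.normalizer_ne hB) n hn

omit I in
/-- the stabiliser of `C_V(b)` -/
def KK (V : Type u) [AddCommGroup V] [DistribMulAction Y V] (b : Y) : Subgroup Y where
  carrier := {y | ∀ v : V, b • v = v ↔ b • (y • v) = y • v}
  one_mem' := fun v => by rw [one_smul]
  mul_mem' := fun {x y} hx hy v => by rw [mul_smul]; exact (hy v).trans (hx (y • v))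
  inv_mem' := fun {x} hx v => by
    have h := hx (x⁻¹ • v)
    rw [smul_inv_smul] at h
    exact h.symm

omit I [Finite Y] [Finite V] in
theorem mem_KK {b y : Y} : y ∈ KK V b ↔ ∀ v : V, b • v = v ↔ b • (y • v) = y • v := Iff.rfl

omit I [Finite Y] [Finite V] in
theorem mem_KK_of_comm {b y : Y} (h : y * b = b * y) : y ∈ KK V b := fun v => by
  rw [← mul_smul, ← h, mul_smul]
  exact (smul_left_cancel_iff y).symm

omit I [Finite Y] in
theorem mem_KK_of {b y : Y} (h : ∀ v : V, b • v = v → b • (y • v) = y • v) : y ∈ KK V b := by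
  intro v
  refine ⟨h v, fun hv => ?_⟩
  let S : Set V := {v | b • v = v}
  let f : S → S := fun x => ⟨y • (x : V), h x x.2⟩
  have hf : Function.Injective f := by
    intro a c hac
    have : y • (a : V) = y • (c : V) := congrArg Subtype.val hac
    exact Subtype.ext (smul_left_cancel _ this)
  have hf2 := Finite.surjective_of_injective hf
  obtain ⟨x, hx⟩ := hf2 ⟨y • v, hv⟩
  have h1 : y • (x : V) = y • v := congrArg Subtype.val hx
  rw [← smul_left_cancel _ h1]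
  exact x.2

theorem KK_ne (hB : B ∈ UU) {b : Y} (hb : b ∈ B) (hb1 : b ≠ 1) : KK V b ≠ ⊤ := by
  intro h
  have hq := I.two_le_q hB
  have hc := I.card_ker hB hb hb1
  rcases I.irr (dl b : V →+ V).ker (fun y x hx => by
    have h1 : y ∈ KK V b := h ▸ mem_top y
    exact (dl_eq_zero I.two).2 ((h1 x).1 ((dl_eq_zero I.two).1 hx))) with h1 | h1
  · rw [h1, AddSubgroup.card_bot] at hc
    nlinarith
  · rw [h1, AddSubgroup.card_top, I.cardV] at hc
    have h3 : q ^ 2 < q ^ 4 := Nat.pow_lt_pow_right (by omega) (by norm_num)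
    omega

omit I [Finite Y] [Finite V] in
theorem conj_mem_KK {n y b : Y} : y ∈ KK V (n * b * n⁻¹) ↔ n⁻¹ * y * n ∈ KK V b := by
  have key : ∀ v : V, (n * b * n⁻¹) • v = v ↔ b • (n⁻¹ • v) = n⁻¹ • v := fun v => by
    rw [mul_smul, mul_smul, ← eq_inv_smul_iff]
  constructor
  · intro h v
    have h1 := h (n • v)
    have e : n⁻¹ • y • n • v = (n⁻¹ * y * n) • v := by simp only [mul_smul]
    rwa [key, key, inv_smul_smul, e] at h1
  · intro h v
    rw [key, key]
    have h1 := h (n⁻¹ • v)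
    have e : (n⁻¹ * y * n) • n⁻¹ • v = n⁻¹ • y • v := by
      rw [← mul_smul, mul_inv_cancel_right, mul_smul]
    rwa [e] at h1

include P mx

/-- (5) -/
theorem KK_fix (hB : B ∈ UU) {T : Sylow 2 Y} (hT : B ≤ T) {p : Ω} (hp : At T p) {b : Y} (hb : b ∈ B)
    (hb1 : b ≠ 1) : (∀ y ∈ KK V b, y • p = p) ∧ ∃ T' : Sylow 2 Y, (T' : Subgroup Y) ≤ KK V b := by
  obtain ⟨z, hz, hz1, hzT⟩ := exists_central T.isPGroup' hT (I.norm_of_le hB hT) fun h => hb1 (by
    rwa [h, mem_bot] at hb)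
  obtain ⟨n, hn, rfl⟩ := I.trans B hB z hz hz1 b hb hb1
  have hTK : (T : Subgroup Y) ≤ KK V z := fun t ht => mem_KK_of_comm (hzT t ht)
  have hK := mx T p hp (KK V z) hTK (I.KK_ne hB hz hz1)
  have hnp := I.norm_fix mx hB hT hp hn
  refine ⟨fun y hy => ?_, n • T, fun t ht => ?_⟩
  · rw [conj_mem_KK] at hy
    have h1 := hK _ hy
    rw [mul_smul, mul_smul, hnp, inv_smul_eq_iff, hnp] at h1
    exact h1
  · rw [conj_mem_KK]
    exact hTK (mem_smul_sylow.1 ht)

theorem cent_fix (hB : B ∈ UU) {T : Sylow 2 Y} (hT : B ≤ T) {p : Ω} (hp : At T p) {b : Y} (hb : b ∈ B)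
    (hb1 : b ≠ 1) {y : Y} (hy : y * b = b * y) : y • p = p :=
  (I.KK_fix P mx hB hT hp hb hb1).1 y (mem_KK_of_comm hy)

/-- (5) : `C_V(b) = C_V(c)` ⟹ the points of `B`, `C` are equal -/
theorem eq_pt (hB : B ∈ UU) {T : Sylow 2 Y} (hT : B ≤ T) {p : Ω} (hp : At T p) {b : Y} (hb : b ∈ B)
    (hb1 : b ≠ 1) (hC : C ∈ UU) {T' : Sylow 2 Y} (hT' : C ≤ T') {p' : Ω} (hp' : At T' p') {c : Y} (hc : c ∈ C)
    (hc1 : c ≠ 1) (h : ∀ v : V, b • v = v → c • v = v) : p = p' := by
  have h1 : (dl b : V →+ V).ker = (dl c : V →+ V).ker := by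
    refine AddSubgroup.eq_of_le_of_card_ge (fun v hv => ?_) (by
      rw [I.card_ker hB hb hb1, I.card_ker hC hc hc1])
    exact (dl_eq_zero I.two).2 (h v ((dl_eq_zero I.two).1 hv))
  have h2 : ∀ v : V, b • v = v ↔ c • v = v := fun v => by
    have h3 : v ∈ (dl b : V →+ V).ker ↔ v ∈ (dl c : V →+ V).ker := by rw [h1]
    rw [AddMonoidHom.mem_ker, AddMonoidHom.mem_ker, dl_eq_zero I.two, dl_eq_zero I.two] at h3
    exact h3
  have h3 : KK V b = KK V c := by
    ext y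
    rw [mem_KK, mem_KK]
    exact forall_congr' fun v => by rw [h2 v, h2 (y • v)]
  obtain ⟨h4, T'', hT''⟩ := I.KK_fix P mx hB hT hp hb hb1
  have h5 := (I.KK_fix P mx hC hT' hp' hc hc1).1
  exact P.one T'' p p' (fun t ht => h4 t (hT'' ht)) (fun t ht => h5 t (h3 ▸ hT'' ht))

end pts

end Inp

end Cfsg.Agent.Omega.NO1.Alpha
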