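import Cfsg.Agent.Omega.NO1.Alpha.Defs

/-!
# THEOREM ALPHA (text #18722, helper446), (4)-(7): the input, lines, members normalising each other

`Inp V q UU` : the class `UU` on `V` after (3): `|V| = q⁴`, `|B| = q²`, `|C_V(B)| = q`, `V` irreducible, `N_Y(B)`
transitive on `B#`, no offender, `F_B` determines `B`, LEMMA SOC with `E_w = V ∩ O₂(C_G(w))`.
-/

set_option autoImplicit false
set_option linter.unusedSectionVars false

namespace Cfsg.Agent.Omega.NO1.Alpha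

open Subgroup Cfsg.Agent.ZN
open Cfsg.Agent.Omega.NO1.HE (dl dl_apply dl_one dl_eq_zero dl_comm dl_mul dl_self smul_eq add_eq_zero' mem_conj)
open scoped Pointwise

universe u

variable {Y : Type u} [Group Y] (V : Type u) [AddCommGroup V] [DistribMulAction Y V]

/-- The input of (4)-(7). -/
structure Inp (q : ℕ) (UU : Set (Subgroup Y)) : Prop where
  two : ∀ v : V, v + v = 0
  mem : ∀ B ∈ UU, Mem V q B
  conj : ∀ B ∈ UU, ∀ y : Y, MulAut.conj y • B ∈ UU
  one : ∀ B ∈ UU, ∀ C ∈ UU, ∃ y : Y, MulAut.conj y • B = C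
  uniq : ∀ B ∈ UU, ∀ C ∈ UU, FX V B = FX V C → B = C
  sc : ∀ B ∈ UU, ∀ x ∈ EX V B, x ∉ FX V B → ∃ A : Subgroup Y, A ≤ B ∧ Nat.card A = q ∧
    (∀ s ∈ A, s ≠ 1 → ∃ w, w ∉ EX V B ∧ dl s w + x ∈ FX V B) ∧ ∀ s ∈ A, ∀ t ∈ A, ∀ v : V, dl s (dl t v) = 0
  /-- `D = E_w`, `A = A_w` -/
  soc : ∀ w : V, w ≠ 0 → ∃ D : AddSubgroup V, ∀ B ∈ UU, w ∈ FX V B → ∃ A : Subgroup Y, A ≤ B ∧ A ≠ ⊥ ∧
    (∀ C ∈ UU, w ∈ FX V C → A ≤ normalizer (C : Set Y)) ∧
    ∀ v, v ∉ EX V B → (∀ a ∈ A, ∃ e ∈ D, dl a v + e ∈ FX V B) ∧ ∀ e ∈ D, ∃ a ∈ A, dl a v + e ∈ FX V B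
  noff : ∀ A : Subgroup Y, (∀ a ∈ A, ∀ b ∈ A, a * b = b * a) → (∀ a ∈ A, a * a = 1) → A ≠ ⊥ →
    Nat.card A < (FX V A).index
  irr : ∀ X : AddSubgroup V, (∀ y : Y, ∀ x ∈ X, y • x ∈ X) → X = ⊥ ∨ X = ⊤
  cardV : Nat.card V = q ^ 4
  cardB : ∀ B ∈ UU, Nat.card B = q ^ 2
  cardF : ∀ B ∈ UU, Nat.card (FX V B) = q
  EF : ∀ B ∈ UU, ∀ b ∈ B, b ≠ 1 → ∀ f ∈ FX V B, ∃ e ∈ EX V B, dl b e = f
  trans : ∀ B ∈ UU, ∀ b ∈ B, b ≠ 1 → ∀ c ∈ B, c ≠ 1 → ∃ n ∈ normalizer (B : Set Y), n * b * n⁻¹ = c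

variable {V}

theorem add_mem_iff {W : AddSubgroup V} (h2 : ∀ v : V, v + v = 0) {a b : V} (hab : a + b ∈ W) : a ∈ W ↔ b ∈ W := by
  constructor
  · intro h
    have h1 := W.add_mem h hab
    rwa [← add_assoc, h2, zero_add] at h1
  · intro h
    have h1 := W.add_mem hab h
    rwa [add_assoc, h2, add_zero] at h1

theorem add_trans {W : AddSubgroup V} (h2 : ∀ v : V, v + v = 0) {a b c : V} (hab : a + b ∈ W) (hbc : b + c ∈ W) :
    a + c ∈ W := by
  have h1 := W.add_mem hab hbc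
  have e : a + b + (b + c) = a + c + (b + b) := by abel
  rwa [e, h2, add_zero] at h1

namespace Inp

variable {q : ℕ} {UU : Set (Subgroup Y)} {B C : Subgroup Y} (I : Inp V q UU)
include I

section basic

variable (hB : B ∈ UU)
include hB

theorem fix {b : Y} (hb : b ∈ B) {f : V} (hf : f ∈ FX V B) : b • f = f := hf b hb

/-- `[w,s] ≡ [w,t]` mod `F`, `w ∉ E` ⟹ `s = t` -/
theorem eq_of {w : V} (hw : w ∉ EX V B) {s t : Y} (hs : s ∈ B) (ht : t ∈ B) (h : dl s w + dl t w ∈ FX V B) :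
    s = t := by
  have M := I.mem B hB
  have h1 : dl (s * t) w ∈ FX V B := by
    rw [dl_mul I.two]
    exact (FX V B).add_mem h (M.dlF hs (M.VB t ht w))
  have h2 := M.inj w hw (s * t) (mul_mem hs ht) h1
  rw [mul_eq_one_iff_eq_inv, M.inv_eq ht] at h2
  exact h2

/-- `[w,s] ≡ [w',s]` mod `F`, `s ≠ 1` ⟹ `w ≡ w'` mod `E` -/
theorem mem_of {w w' : V} {s : Y} (hs : s ∈ B) (h1 : s ≠ 1) (h : dl s w + dl s w' ∈ FX V B) :
    w + w' ∈ EX V B := by
  by_contra hne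
  rw [← map_add] at h
  exact h1 ((I.mem B hB).inj _ hne s hs h)

theorem notE {w : V} {s : Y} (hs : s ∈ B) (h : dl s w ∉ FX V B) : w ∉ EX V B :=
  fun hw => h ((I.mem B hB).dlF hs hw)

theorem dl_notF {w : V} {s : Y} (hs : s ∈ B) (h1 : s ≠ 1) (hw : w ∉ EX V B) : dl s w ∉ FX V B :=
  fun h => h1 ((I.mem B hB).inj w hw s hs h)

end basic

section fin

variable [Finite Y] [Finite V] (hB : B ∈ UU)

omit I in
theorem q_pos (I : Inp V q UU) : 0 < q := by
  rcases Nat.eq_zero_or_pos q with h | h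
  · exfalso
    have h1 := I.cardV
    rw [h] at h1
    have h2 : 0 < Nat.card V := Nat.card_pos
    omega
  · exact h

include hB

theorem two_le_q : 2 ≤ q := by
  have M := I.mem B hB
  have h1 := I.q_pos
  rcases Nat.lt_or_ge q 2 with h | h
  · exfalso
    have hq : q = 1 := by omega
    obtain ⟨v, hv⟩ := M.ne
    have h2 := M.ind
    rw [hq, AddSubgroup.index_eq_one] at h2
    exact hv (h2 ▸ AddSubgroup.mem_top v)
  · exact h

theorem cardE : Nat.card (EX V B) = q ^ 3 := by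
  have h1 := AddSubgroup.card_mul_index (EX V B)
  rw [(I.mem B hB).ind, I.cardV] at h1
  have h2 := I.q_pos
  refine Nat.eq_of_mul_eq_mul_right h2 ?_
  rw [h1]
  ring

theorem card_ker {b : Y} (hb : b ∈ B) (h1 : b ≠ 1) : Nat.card (dl b : V →+ V).ker = q ^ 2 := by
  have M := I.mem B hB
  let f : EX V B →+ V := (dl b : V →+ V).comp (EX V B).subtype
  have hr : f.range = FX V B := by
    ext x
    constructor
    · rintro ⟨e, rfl⟩
      exact M.dlF hb e.2
    · intro hx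
      obtain ⟨e, he, hex⟩ := I.EF B hB b hb h1 x hx
      exact ⟨⟨e, he⟩, hex⟩
  have hk : f.ker.map (EX V B).subtype = (dl b : V →+ V).ker := by
    ext x
    constructor
    · rintro ⟨e, he, rfl⟩
      exact he
    · intro hx
      have hxE : x ∈ EX V B := M.mem_of_fix I.two hb h1 ((dl_eq_zero I.two).1 hx)
      exact ⟨⟨x, hxE⟩, hx, rfl⟩
  have h2 : Nat.card f.ker = Nat.card (dl b : V →+ V).ker := by
    rw [← hk]
    exact Nat.card_congr (AddSubgroup.equivMapOfInjective _ _ (EX V B).subtype_injective).toEquiv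
  have h3 := AddSubgroup.card_mul_index f.ker
  rw [AddSubgroup.index_ker, hr, I.cardF B hB, I.cardE hB, h2] at h3
  refine Nat.eq_of_mul_eq_mul_right I.q_pos ?_
  rw [h3]
  ring

theorem range_eq_ker {b : Y} (hb : b ∈ B) (h1 : b ≠ 1) : (dl b : V →+ V).range = (dl b : V →+ V).ker := by
  have M := I.mem B hB
  have h2 := AddSubgroup.card_mul_index (dl b : V →+ V).ker
  rw [AddSubgroup.index_ker, I.card_ker hB hb h1, I.cardV] at h2
  have h3 : Nat.card (dl b : V →+ V).range = q ^ 2 := by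
    have h4 : 0 < q ^ 2 := pow_pos I.q_pos 2
    refine Nat.eq_of_mul_eq_mul_left h4 ?_
    rw [h2]
    ring
  refine AddSubgroup.eq_of_le_of_card_ge ?_ (by rw [h3, I.card_ker hB hb h1])
  rintro _ ⟨v, rfl⟩
  exact dl_self I.two (M.sq b hb) v

theorem exists_dl {b : Y} (hb : b ∈ B) (h1 : b ≠ 1) {x : V} (hx : b • x = x) : ∃ w, dl b w = x := by
  have h2 : x ∈ (dl b : V →+ V).ker := (dl_eq_zero I.two).2 hx
  rw [← I.range_eq_ker hB hb h1] at h2
  exact h2

/-- The line of `x ∈ E - F`. -/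
theorem exists_line {x : V} (hx : x ∈ EX V B) (hxF : x ∉ FX V B) : ∃ A : Subgroup Y, A ≤ B ∧ Nat.card A = q ∧
    (∀ s ∈ B, s • x = x ↔ s ∈ A) ∧ ∀ s ∈ A, s ≠ 1 → ∀ t ∈ A, ∀ v : V, s • v = v → t • v = v := by
  classical
  have M := I.mem B hB
  obtain ⟨A, hA, hcard, h1, h2⟩ := I.sc B hB x hx hxF
  refine ⟨A, hA, hcard, fun s hs => ⟨fun hsx => ?_, fun hsA => ?_⟩, ?_⟩
  · by_cases hs1 : s = 1
    · rw [hs1]; exact one_mem _
    obtain ⟨w, hw⟩ := I.exists_dl hB hs hs1 hsx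
    have hwE : w ∉ EX V B := I.notE hB hs (by rw [hw]; exact hxF)
    choose g hg hg' using h1
    let φ : A → V ⧸ EX V B := fun t => if h : (t : Y) = 1 then 0 else QuotientAddGroup.mk (g t t.2 h)
    have hφ : Function.Injective φ := by
      intro t t' htt
      by_cases ht : (t : Y) = 1 <;> by_cases ht' : (t' : Y) = 1
      · exact Subtype.ext (ht.trans ht'.symm)
      · exfalso
        simp only [φ, dif_pos ht, dif_neg ht'] at htt
        exact hg t' t'.2 ht' ((QuotientAddGroup.eq_zero_iff _).1 htt.symm)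
      · exfalso
        simp only [φ, dif_pos ht', dif_neg ht] at htt
        exact hg t t.2 ht ((QuotientAddGroup.eq_zero_iff _).1 htt)
      · simp only [φ, dif_neg ht, dif_neg ht'] at htt
        rw [QuotientAddGroup.eq] at htt
        have h3 : g t t.2 ht + g t' t'.2 ht' ∈ EX V B := by
          have e : -g t t.2 ht = g t t.2 ht := neg_eq_of_add_eq_zero_left (I.two _)
          rwa [e] at htt
        have h4 := M.dlF (hA t'.2) h3
        rw [map_add] at h4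
        have h5 := hg' t t.2 ht
        have h6 := hg' t' t'.2 ht'
        -- dl t g + x, dl t' g' + x, dl t' g + dl t' g'
        have h7 : dl (t : Y) (g t t.2 ht) + dl (t' : Y) (g t t.2 ht) ∈ FX V B := by
          refine add_trans I.two (b := x) h5 ?_
          rw [add_comm]
          refine add_trans I.two (b := dl (t' : Y) (g t' t'.2 ht')) h4 h6
        exact Subtype.ext (I.eq_of hB (hg t t.2 ht) (hA t.2) (hA t'.2) h7)
    have hcard' : Nat.card A = Nat.card (V ⧸ EX V B) := by rw [hcard, ← M.ind]; rfl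
    have hsurj := (Function.Injective.bijective_of_nat_card_le hφ hcard'.ge).2
    obtain ⟨t, ht⟩ := hsurj (QuotientAddGroup.mk w)
    have ht1 : (t : Y) ≠ 1 := by
      intro h
      simp only [φ, dif_pos h] at ht
      exact hwE ((QuotientAddGroup.eq_zero_iff _).1 ht.symm)
    simp only [φ, dif_neg ht1] at ht
    rw [QuotientAddGroup.eq] at ht
    have h3 : g t t.2 ht1 + w ∈ EX V B := by
      have e : -g t t.2 ht1 = g t t.2 ht1 := neg_eq_of_add_eq_zero_left (I.two _)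
      rwa [e] at ht
    have h4 := M.dlF (hA t.2) h3
    rw [map_add] at h4
    have h5 := hg' t t.2 ht1
    have h6 : dl (t : Y) w + dl s w ∈ FX V B := by
      rw [hw]
      refine add_trans I.two (b := dl (t : Y) (g t t.2 ht1)) ?_ h5
      rwa [add_comm]
    rw [← I.eq_of hB hwE (hA t.2) hs h6]
    exact t.2
  · by_cases hs1 : s = 1
    · rw [hs1, one_smul]
    obtain ⟨w, -, hw⟩ := h1 s hsA hs1
    have h3 := hw s hs
    have h4 : s • dl s w = dl s w := (dl_eq_zero I.two).1 (dl_self I.two (M.sq s hs) w)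
    rw [smul_add, h4] at h3
    exact add_left_cancel h3
  · intro s hs hs1 t ht v hv
    obtain ⟨w, rfl⟩ := I.exists_dl hB (hA hs) hs1 hv
    exact (dl_eq_zero I.two).1 (h2 t ht s hs w)

omit I hB in
/-- the line of `s` -/
def ln (V : Type u) [AddCommGroup V] [DistribMulAction Y V] (B : Subgroup Y) (s : Y) : Subgroup Y where
  carrier := {t | t ∈ B ∧ ∀ v : V, s • v = v → t • v = v}
  one_mem' := ⟨one_mem _, fun v _ => one_smul _ v⟩
  mul_mem' := fun {a b} ha hb => ⟨mul_mem ha.1 hb.1, fun v hv => by rw [mul_smul, hb.2 v hv, ha.2 v hv]⟩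
  inv_mem' := fun {a} ha => ⟨inv_mem ha.1, fun v hv => by rw [inv_smul_eq_iff, ha.2 v hv]⟩

omit I hB [Finite Y] [Finite V] in
theorem mem_ln {B : Subgroup Y} {s t : Y} : t ∈ ln V B s ↔ t ∈ B ∧ ∀ v : V, s • v = v → t • v = v := Iff.rfl

omit I hB [Finite Y] [Finite V] in
theorem ln_le {B : Subgroup Y} {s : Y} : ln V B s ≤ B := fun _ h => h.1

omit I hB [Finite Y] [Finite V] in
theorem self_mem_ln {B : Subgroup Y} {s : Y} (hs : s ∈ B) : s ∈ ln V B s := ⟨hs, fun _ h => h⟩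

/-- `C_V(s) ∩ C_V(t) ⊄ F` ⟹ `C_V(s) ≤ C_V(t)` -/
theorem same {s t : Y} (hs : s ∈ B) (hs1 : s ≠ 1) (ht : t ∈ B) {x : V} (hxF : x ∉ FX V B) (hsx : s • x = x)
    (htx : t • x = x) {v : V} (hv : s • v = v) : t • v = v := by
  obtain ⟨A, -, -, h1, h2⟩ := I.exists_line hB ((I.mem B hB).mem_of_fix I.two hs hs1 hsx) hxF
  exact h2 s ((h1 s hs).1 hsx) hs1 t ((h1 t ht).1 htx) v hv

theorem exists_notF {s : Y} (hs : s ∈ B) (hs1 : s ≠ 1) : ∃ x : V, x ∉ FX V B ∧ s • x = x := by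
  obtain ⟨w, hw⟩ := (I.mem B hB).ne
  exact ⟨dl s w, I.dl_notF hB hs hs1 hw,
    (dl_eq_zero I.two).1 (dl_self I.two ((I.mem B hB).sq s hs) w)⟩

theorem card_ln {s : Y} (hs : s ∈ B) (hs1 : s ≠ 1) : Nat.card (ln V B s) = q := by
  obtain ⟨x, hxF, hx⟩ := I.exists_notF hB hs hs1
  obtain ⟨A, hA, hcard, h1, h2⟩ := I.exists_line hB ((I.mem B hB).mem_of_fix I.two hs hs1 hx) hxF
  have e : ln V B s = A := by
    ext t
    constructor
    · rintro ⟨ht, h3⟩
      exact (h1 t ht).1 (h3 x hx)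
    · intro ht
      exact ⟨hA ht, h2 s ((h1 s hs).1 hx) hs1 t ht⟩
  rw [e, hcard]

theorem ln_symm {s t : Y} (hs : s ∈ B) (hs1 : s ≠ 1) (ht : t ∈ ln V B s) (ht1 : t ≠ 1) {v : V}
    (hv : t • v = v) : s • v = v := by
  obtain ⟨x, hxF, hx⟩ := I.exists_notF hB hs hs1
  exact I.same hB ht.1 ht1 hs hxF (ht.2 x hx) hx hv

/-- a group fixing a vector outside `F` lies in a line -/
theorem le_ln {R : Subgroup Y} (hR : R ≤ B) {v : V} (hv : v ∉ FX V B) (h : ∀ r ∈ R, r • v = v) {s : Y}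
    (hs : s ∈ R) (hs1 : s ≠ 1) : R ≤ ln V B s := fun t ht =>
  ⟨hR ht, fun _ hx => I.same hB (hR hs) hs1 (hR ht) hv (h s hs) (h t ht) hx⟩

/-- Two lines generate `B`. -/
theorem eq_of_two_lines {R : Subgroup Y} (hR : R ≤ B) {s t : Y} (hs : s ∈ B) (hs1 : s ≠ 1) (ht : t ∈ B)
    (hts : t ∉ ln V B s) (h1 : ln V B s ≤ R) (h2 : ln V B t ≤ R) : R = B := by
  have M := I.mem B hB
  have ht1 : t ≠ 1 := fun h => hts (h ▸ one_mem _)
  have hdis : ln V B s ⊓ ln V B t = ⊥ := by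
    rw [eq_bot_iff]
    rintro y ⟨hy1, hy2⟩
    rw [mem_bot]
    by_contra hy
    exact hts ⟨ht, fun v hv => I.ln_symm hB ht ht1 hy2 hy (hy1.2 v hv)⟩
  refine Subgroup.eq_of_le_of_card_ge hR ?_
  rw [I.cardB B hB]
  -- `ℓ × ℓ' → R` injective
  let f : (ln V B s) × (ln V B t) → R := fun p => ⟨p.1 * p.2, mul_mem (h1 p.1.2) (h2 p.2.2)⟩
  have hf : Function.Injective f := by
    rintro ⟨a, b⟩ ⟨c, d⟩ h
    have h3 : (a : Y) * b = c * d := congrArg Subtype.val h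
    have h4 : (c : Y)⁻¹ * a = d * (b : Y)⁻¹ := by
      rw [inv_mul_eq_iff_eq_mul, ← mul_assoc, ← h3, mul_inv_cancel_right]
    have h5 : (c : Y)⁻¹ * a ∈ ln V B s ⊓ ln V B t :=
      Subgroup.mem_inf.2 ⟨Subgroup.mul_mem _ (Subgroup.inv_mem _ c.2) a.2,
        h4 ▸ Subgroup.mul_mem _ d.2 (Subgroup.inv_mem _ b.2)⟩
    rw [hdis, mem_bot] at h5
    have h6 : (a : Y) = c := by rwa [inv_mul_eq_one, eq_comm] at h5
    have h7 : (b : Y) = d := by
      rw [h6] at h3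
      exact mul_left_cancel h3
    exact Prod.ext (Subtype.ext h6) (Subtype.ext h7)
  have h8 := Nat.card_le_card_of_injective f hf
  rw [Nat.card_prod, I.card_ln hB hs hs1, I.card_ln hB ht ht1] at h8
  rwa [pow_two]

end fin

end Inp

end Cfsg.Agent.Omega.NO1.Alpha
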