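import Cfsg.Agent.Omega.NO1.Alpha.Four
import Cfsg.Agent.Omega.NO1.Alpha.Irr

/-!
# THEOREM ALPHA (text #18722): the input of (4)-(7) from (0)-(3)

`inp_of` : `Cls V q UU`, `AL V UU L`, one class, `F_B` determines `B`, strong SOC, no offender ⟹ `Inp V q UU`.
-/

set_option autoImplicit false
set_option linter.unusedSectionVars false

namespace Cfsg.Agent.Omega.NO1.Alpha

open Subgroup Cfsg.Agent.ZN
open Cfsg.Agent.Omega.NO1.HE (dl dl_apply dl_one dl_eq_zero dl_comm dl_mul dl_self smul_eq add_eq_zero' mem_conj)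
open scoped Pointwise

universe u

variable {Y V : Type u} [Group Y] [AddCommGroup V] [DistribMulAction Y V]

/-- `|C_V(B^y)| = |C_V(B)|` -/
theorem inp_card_FX_conj (B : Subgroup Y) (y : Y) : Nat.card (FX V (MulAut.conj y • B)) = Nat.card (FX V B) := by
  refine Nat.card_congr
    { toFun := fun v => ⟨y⁻¹ • v.1, ?_⟩
      invFun := fun v => ⟨y • v.1, smul_mem_FX.2 v.2⟩
      left_inv := fun v => Subtype.ext (smul_inv_smul y v.1)
      right_inv := fun v => Subtype.ext (inv_smul_smul y v.1) }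
  rw [← smul_mem_FX (g := y), smul_inv_smul]
  exact v.2

/-- **The input of (4)-(7).** -/
theorem inp_of [Finite Y] [Finite V] {q : ℕ} {UU : Set (Subgroup Y)} {L : Subgroup Y} (K : Cls V q UU)
    (H : AL V UU L) (one : ∀ B ∈ UU, ∀ C ∈ UU, ∃ y : Y, MulAut.conj y • B = C)
    (uniq : ∀ B ∈ UU, ∀ C ∈ UU, FX V B = FX V C → B = C)
    (soc : ∀ w : V, w ≠ 0 → ∃ D : AddSubgroup V, ∀ B ∈ UU, w ∈ FX V B → ∃ A : Subgroup Y, A ≤ B ∧ A ≠ ⊥ ∧
      (∀ C ∈ UU, w ∈ FX V C → A ≤ normalizer (C : Set Y)) ∧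
      ∀ v, v ∉ EX V B → (∀ a ∈ A, ∃ e ∈ D, dl a v + e ∈ FX V B) ∧ ∀ e ∈ D, ∃ a ∈ A, dl a v + e ∈ FX V B)
    (noff : ∀ A : Subgroup Y, (∀ a ∈ A, ∀ b ∈ A, a * b = b * a) → (∀ a ∈ A, a * a = 1) → A ≠ ⊥ →
      Nat.card A < (FX V A).index) : Inp V q UU := by
  obtain ⟨D, C, P, -⟩ := id H.ex
  have hD := P.A_mem
  have hC := P.C_mem
  have hDL := P.A_le
  have hCL := P.C_le
  have hne := P.ne
  refine
    { two := K.two
      mem := K.mem
      conj := K.conj
      one := one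
      uniq := uniq
      sc := K.sc
      soc := soc
      noff := noff
      irr := ?_
      cardV := H.card_V K
      cardB := ?_
      cardF := ?_
      EF := ?_
      trans := ?_ }
  · intro X hX
    by_cases hX0 : X = ⊥
    · exact Or.inl hX0
    · exact Or.inr (H.irr K (fun l _ w hw => hX l w hw) hX0)
  · intro B hB
    obtain ⟨y, rfl⟩ := one D hD B hB
    rw [← H.card_D K hD hDL]
    exact Nat.card_congr (Subgroup.equivSMul (MulAut.conj y) D).toEquiv.symm
  · intro B hB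
    obtain ⟨y, rfl⟩ := one D hD B hB
    rw [inp_card_FX_conj]
    exact H.card_FX K hD hDL
  · intro B hB b hb hb1 f hf
    obtain ⟨y, rfl⟩ := one D hD B hB
    rw [mem_conj] at hb
    have h1 : y⁻¹ * b * y ≠ 1 := by
      intro h0
      apply hb1
      calc b = y * (y⁻¹ * b * y) * y⁻¹ := by group
        _ = 1 := by rw [h0]; group
    have hf' : y⁻¹ • f ∈ FX V D := by
      rw [← smul_mem_FX (g := y), smul_inv_smul]
      exact hf
    rw [H.FX_eq K hD hDL hb h1] at hf'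
    obtain ⟨e, he, hef⟩ := hf'
    refine ⟨y • e, smul_mem_EX.2 he, ?_⟩
    have e1 : y * (y⁻¹ * b * y) * y⁻¹ = b := by group
    have h2 : dl b (y • e) = y • dl (y⁻¹ * b * y) e := by rw [← dl_conj, e1]
    rw [h2, hef, smul_inv_smul]
  · intro B hB b hb hb1 c hc hc1
    obtain ⟨y, rfl⟩ := one D hD B hB
    rw [mem_conj] at hb hc
    have key : ∀ x : Y, x ≠ 1 → y⁻¹ * x * y ≠ 1 := by
      intro x hx h0
      apply hx
      calc x = y * (y⁻¹ * x * y) * y⁻¹ := by group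
        _ = 1 := by rw [h0]; group
    obtain ⟨g, -, hg, -, hgb⟩ := H.exists_conj K hD hC hDL hCL hne hb hc (key b hb1) (key c hc1)
    refine ⟨y * g * y⁻¹, ?_, ?_⟩
    · rw [← conj_eq_iff] at hg ⊢
      rw [map_mul, map_mul, map_inv, mul_smul, mul_smul, inv_smul_smul, hg]
    · calc y * g * y⁻¹ * b * (y * g * y⁻¹)⁻¹ = y * (g * (y⁻¹ * b * y) * g⁻¹) * y⁻¹ := by group
        _ = c := by rw [hgb]; group

end Cfsg.Agent.Omega.NO1.Alpha
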