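import Cfsg.Agent.Omega.NO1.Alpha.InpOfPlus
import Cfsg.Agent.Omega.NO1.Alpha.Bridge

/-!
# FIN-ALPHA: from `V₁` to `V_m` (module level)

`π : Y' → Y` surjective, `ι : V → M'` injective and equivariant, `UU` a class of members of `Y'` on `M'`, `D ∈ UU` with a
local group with (+) for `π(D)` on `V`.  Then `ι` is surjective.
-/

set_option autoImplicit false
set_option linter.unusedSectionVars false

namespace Cfsg.Agent.Omega.NO1.Alpha

open Subgroup Cfsg.Agent.ZN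
open Cfsg.Agent.Omega.NO1.HE (dl dl_apply dl_one dl_eq_zero dl_comm dl_mul dl_self smul_eq add_eq_zero' mem_conj
  exists_fixed mem_smul_sylow At Pts Geo)
open Cfsg.Agent.MinSimple.VModule (o2_isPGroup)
open scoped Pointwise

universe u

variable {Y V : Type u} [Group Y] [Finite Y] [AddCommGroup V] [Finite V] [DistribMulAction Y V]
  {Y' M' : Type u} [Group Y'] [Finite Y'] [AddCommGroup M'] [Finite M'] [DistribMulAction Y' M']

/-- `M' → M` : the group `Y'` on `M'`, the group `Y` on the submodule `V` -/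
structure Lift (π : Y' →* Y) (ι : V →+ M') : Prop where
  surj : Function.Surjective π
  inj : Function.Injective ι
  eq : ∀ (y : Y') (m : V), ι (π y • m) = y • ι m

namespace Lift

variable {π : Y' →* Y} {ι : V →+ M'} (l : Lift π ι)
include l

theorem mem_FX {B : Subgroup Y'} {v : V} : v ∈ FX V (B.map π) ↔ ι v ∈ FX M' B := by
  constructor
  · intro h b hb
    rw [← l.eq, h _ ⟨b, hb, rfl⟩]
  · rintro h _ ⟨b, hb, rfl⟩
    apply l.inj
    rw [l.eq]
    exact h b hb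

theorem dl_eq (b : Y') (v : V) : ι (dl (π b) v) = dl b (ι v) := by
  rw [dl_apply, dl_apply, map_add, l.eq]

theorem mem_EX {B : Subgroup Y'} {v : V} : v ∈ EX V (B.map π) ↔ ι v ∈ EX M' B := by
  constructor
  · intro h b hb
    rw [← l.dl_eq, ← l.mem_FX]
    exact h _ ⟨b, hb, rfl⟩
  · rintro h _ ⟨b, hb, rfl⟩
    rw [l.mem_FX, l.dl_eq]
    exact h b hb

theorem map_conj (g : Y') (B : Subgroup Y') : (MulAut.conj g • B).map π = MulAut.conj (π g) • B.map π := by
  ext y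
  rw [mem_conj']
  constructor
  · rintro ⟨b, hb, rfl⟩
    obtain ⟨b, hb', rfl⟩ := mem_conj'.1 hb
    exact ⟨π b, ⟨b, hb', rfl⟩, by simp⟩
  · rintro ⟨_, ⟨b, hb, rfl⟩, rfl⟩
    exact ⟨g * b * g⁻¹, mem_conj'.2 ⟨b, hb, rfl⟩, by simp⟩

variable {q a : ℕ} {UU : Set (Subgroup Y')} (K : Cls M' q UU) {D : Subgroup Y'} (hD : D ∈ UU)
  {L A : Subgroup Y} {L₁ : Subgroup L} {R : Sylow 2 L} (h : PL V a L A L₁ R) (hA : D.map π = A)
include K hD h hA

theorem exists_w : ∃ w : V, ι w ∉ EX M' D := by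
  obtain ⟨w, hw⟩ := h.mem.ne
  rw [← hA] at hw
  exact ⟨w, fun h1 => hw (l.mem_EX.2 h1)⟩

/-- `π` is injective on `D^g` -/
theorem inj_D {g b : Y'} (hb : b ∈ MulAut.conj g • D) (h1 : π b = 1) : b = 1 := by
  obtain ⟨b, hb', rfl⟩ := mem_conj'.1 hb
  rw [map_mul, map_mul, map_inv, mul_inv_eq_one, mul_eq_left] at h1
  obtain ⟨w, hw⟩ := l.exists_w K hD h hA
  have h2 : b = 1 := (K.mem D hD).inj _ hw b hb' (by
    rw [← l.dl_eq, h1, dl_one h.two, map_zero]
    exact (FX M' D).zero_mem)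
  rw [h2]
  group

theorem card_eq : Nat.card D = a ^ 2 := by
  rw [← h.card_A, ← hA]
  refine Nat.card_congr (Equiv.ofBijective (fun b : D => (⟨π b, ⟨b, b.2, rfl⟩⟩ : D.map π)) ⟨?_, ?_⟩)
  · intro b c hbc
    have h1 : π (b : Y') = π (c : Y') := congrArg Subtype.val hbc
    have h2 : (b : Y')⁻¹ * (c : Y') = 1 := by
      refine l.inj_D K hD h hA (g := 1) ?_ ?_
      · rw [map_one, one_smul]
        exact D.mul_mem (D.inv_mem b.2) c.2
      · rw [map_mul, map_inv, h1, inv_mul_cancel]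
    exact Subtype.ext (inv_mul_eq_one.1 h2)
  · rintro ⟨_, b, hb, rfl⟩
    exact ⟨⟨b, hb⟩, rfl⟩

/-- the claim: a subgroup over `D` with a fixed vector does not cover `L` -/
theorem claim {X : Subgroup Y'} (hX : D ≤ X) (hXL : X.map π ≤ L) {x : M'} (hx : x ≠ 0)
    (hfix : ∀ k ∈ X, k • x = x) {k : Y'} (hk : k ∈ X) : (⟨π k, hXL ⟨k, hk, rfl⟩⟩ : L) ∈ L₁ := by
  have h1 : A.subgroupOf L ≤ (X.map π).subgroupOf L := by
    intro y hy
    rw [mem_subgroupOf, ← hA] at hy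
    exact mem_subgroupOf.2 (map_mono hX hy)
  by_cases h2 : (X.map π).subgroupOf L = ⊤
  · exfalso
    have h3 : L ≤ X.map π := by
      intro y hy
      have h4 : (⟨y, hy⟩ : L) ∈ (X.map π).subgroupOf L := by rw [h2]; exact mem_top _
      exact h4
    have h4 := K.soc D hD X hX ⟨x, hx, hfix⟩
    apply h4
    rw [eq_bot_iff]
    rintro b ⟨hbD, hbO⟩
    -- the image of `O₂(X)` in `L`
    have h5 : ((o2 X).map π).subgroupOf L = ⊥ := by
      refine h.core _ ⟨?_⟩ ?_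
      · rintro n hn g
        rw [mem_subgroupOf] at hn ⊢
        obtain ⟨m, hm, hmn⟩ := hn
        obtain ⟨x', hx', hxg⟩ := h3 g.2
        refine ⟨x' * m * x'⁻¹, ?_, ?_⟩
        · exact (mem_normalizer_iff.1 (le_normalizer_o2 X hx') m).1 hm
        · rw [map_mul, map_mul, map_inv, hmn, hxg]
          rfl
      · exact ((o2_isPGroup X).map π).comap_of_injective _ L.subtype_injective
    have h6 : (⟨π b, hXL ⟨b, hX hbD, rfl⟩⟩ : L) ∈ ((o2 X).map π).subgroupOf L := mem_subgroupOf.2 ⟨b, hbO, rfl⟩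
    rw [h5, mem_bot] at h6
    have h7 : π b = 1 := congrArg Subtype.val h6
    rw [mem_bot]
    exact l.inj_D K hD h hA (g := 1) (by rw [map_one, one_smul]; exact hbD) h7
  · exact h.uniq _ h1 h2 (mem_subgroupOf.2 ⟨k, hk, rfl⟩)

/-- `1 ≠ b ∈ D^g` and `D` have no common fixed vector if `π g ∉ L₁` -/
theorem no_fix {g : Y'} (hgL : π g ∈ L) (hg : (⟨π g, hgL⟩ : L) ∉ L₁) {b : Y'} (hb : b ∈ MulAut.conj g • D)
    (hb1 : b ≠ 1) {x : M'} (hx : x ≠ 0) (hxD : x ∈ FX M' D) (hxb : b • x = x) : False := by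
  set X : Subgroup Y' := D ⊔ zpowers b with hX
  have hbL : π b ∈ L := by
    obtain ⟨b, hb', rfl⟩ := mem_conj'.1 hb
    rw [map_mul, map_mul, map_inv]
    have h1 : π b ∈ A := hA ▸ ⟨b, hb', rfl⟩
    exact L.mul_mem (L.mul_mem hgL (h.le h1)) (L.inv_mem hgL)
  have hXL : X.map π ≤ L := by
    rw [hX, Subgroup.map_sup, hA]
    refine sup_le h.le ?_
    rw [MonoidHom.map_zpowers, zpowers_le]
    exact hbL
  have hfix : ∀ k ∈ X, k • x = x := by
    have h1 : X ≤ MulAction.stabilizer Y' x := sup_le (fun k hk => hxD k hk) (zpowers_le.2 hxb)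
    exact fun k hk => h1 hk
  have hbX : b ∈ X := (le_sup_right : zpowers b ≤ X) (mem_zpowers b)
  have h1 := l.claim K hD h hA le_sup_left hXL hx hfix hbX
  refine hg (h.free (g := ⟨π g, hgL⟩) (b := π b) ?_ ?_ hbL h1)
  · change π b ∈ MulAut.conj (π g) • A
    rw [← hA, ← l.map_conj]
    exact ⟨b, hb, rfl⟩
  · exact fun h2 => hb1 (l.inj_D K hD h hA hb h2)

/-- `F_D ∩ E_(D^g) = 0` -/
theorem inf_eq {g : Y'} (hgL : π g ∈ L) (hg : (⟨π g, hgL⟩ : L) ∉ L₁) {x : M'} (hxD : x ∈ FX M' D)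
    (hx : x ∈ EX M' (MulAut.conj g • D)) : x = 0 := by
  by_contra hx0
  have hm := K.mem _ (K.conj D hD g)
  by_cases hxF : x ∈ FX M' (MulAut.conj g • D)
  · obtain ⟨b, hb, hb1⟩ := hm.exists_ne_one
    exact l.no_fix K hD h hA hgL hg hb hb1 hx0 hxD (hxF b hb)
  · obtain ⟨w, hw⟩ := hm.ne
    obtain ⟨b, hb, h1⟩ := hm.surj w hw x hx
    have hb1 : b ≠ 1 := by
      rintro rfl
      rw [dl_one K.two, zero_add] at h1
      exact hxF h1
    refine l.no_fix K hD h hA hgL hg hb hb1 hx0 hxD ?_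
    rw [← dl_eq_zero K.two]
    have h2 : dl b (dl b w + x) = 0 := hm.dl0 K.two hb h1
    rw [map_add, dl_self K.two (hm.sq b hb), zero_add] at h2
    exact h2

/-- `|M' : E_D| = |V : E_A|` and `M' = ι(V) + E_D` -/
theorem index_eq (hpf : q ^ 2 ≤ Nat.card D) : q = a := by
  have h1 := l.card_eq K hD h hA
  have h2 : a ≤ q := by
    rw [← h.mem.ind, ← (K.mem D hD).ind]
    have h3 : EX V A = (EX M' D).comap ι := by
      ext v
      rw [← hA]
      exact l.mem_EX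
    rw [h3]
    have : (EX M' D).FiniteIndex := inferInstance
    rw [AddSubgroup.index_comap]
    exact Nat.le_of_dvd (Nat.pos_of_ne_zero AddSubgroup.FiniteIndex.index_ne_zero)
      (AddSubgroup.relIndex_dvd_index_of_normal _ _)
  rw [h1] at hpf
  exact le_antisymm (le_of_not_gt fun h3 => absurd hpf (Nat.not_le.2 (Nat.pow_lt_pow_left h3 (by norm_num)))) h2

theorem add_E (hpf : q ^ 2 ≤ Nat.card D) (m : M') : ∃ v : V, m + ι v ∈ EX M' D := by
  have h3 : EX V A = (EX M' D).comap ι := by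
    ext v
    rw [← hA]
    exact l.mem_EX
  have h1 : (EX M' D).relIndex ι.range = (EX M' D).index := by
    rw [← AddSubgroup.index_comap, ← h3, h.mem.ind, (K.mem D hD).ind, l.index_eq K hD h hA hpf]
  have h2 : (EX M' D).relIndex (ι.range ⊔ EX M' D) = (EX M' D).relIndex ι.range :=
    AddSubgroup.relIndex_sup_right _ _
  have h4 := AddSubgroup.relIndex_mul_index (le_sup_right : EX M' D ≤ ι.range ⊔ EX M' D)
  rw [h2, h1] at h4
  have h5 : (ι.range ⊔ EX M' D).index = 1 := by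
    have : (EX M' D).index ≠ 0 := AddSubgroup.index_ne_zero_of_finite
    exact Nat.eq_of_mul_eq_mul_left (Nat.pos_of_ne_zero this) (by rw [h4, mul_one])
  rw [AddSubgroup.index_eq_one] at h5
  have h6 : m ∈ ι.range ⊔ EX M' D := by rw [h5]; exact AddSubgroup.mem_top _
  obtain ⟨_, ⟨v, rfl⟩, e, he, rfl⟩ := AddSubgroup.mem_sup.1 h6
  refine ⟨v, ?_⟩
  have e1 : ι v + e + ι v = e + (ι v + ι v) := by abel
  rw [e1, K.two, add_zero]
  exact he

theorem add_F (hpf : q ^ 2 ≤ Nat.card D) (m : M') : ∃ v : V, m + ι v ∈ FX M' D := by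
  obtain ⟨v, hv⟩ := l.add_E K hD h hA hpf m
  obtain ⟨w, hw⟩ := l.exists_w K hD h hA
  obtain ⟨b, hb, h1⟩ := (K.mem D hD).surj _ hw _ hv
  refine ⟨v + dl (π b) w, ?_⟩
  rw [map_add, l.dl_eq]
  have e : m + (ι v + dl b (ι w)) = dl b (ι w) + (m + ι v) := by abel
  rw [e]
  exact h1

/-- **`ι` is surjective** -/
theorem surjective (hpf : q ^ 2 ≤ Nat.card D) : Function.Surjective ι := by
  obtain ⟨⟨g₁, hgL⟩, hg⟩ := h.exists_g
  obtain ⟨g, rfl⟩ := l.surj g₁
  -- `F_D ≤ ι(V)`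
  have key : ∀ f ∈ FX M' D, ∃ v : V, ι v = f := by
    intro f hf
    -- `f = ι v + f'`, `f' ∈ F_(D^g)`
    obtain ⟨v₀, hv₀⟩ := l.add_F K hD h hA hpf (g⁻¹ • f)
    set v := π g • v₀ with hv
    have h1 : f + ι v ∈ FX M' (MulAut.conj g • D) := by
      have h2 := smul_mem_FX (g := g).2 hv₀
      rwa [smul_add, smul_inv_smul, ← l.eq] at h2
    obtain ⟨x, hx, y, hy, hxy⟩ := h.sum hg v
    have h3 : f + ι x ∈ EX M' (MulAut.conj g • D) := by
      have e : f + ι x = f + ι v + ι y := by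
        rw [← hxy, map_add]
        have : f + (ι x + ι y) + ι y = f + ι x + (ι y + ι y) := by abel
        rw [this, K.two, add_zero]
      rw [e]
      refine (EX M' _).add_mem ((K.mem _ (K.conj D hD g)).FE K.two h1) ?_
      rw [← l.mem_EX, l.map_conj, hA]
      exact hy
    have h4 : f + ι x ∈ FX M' D := by
      refine (FX M' D).add_mem hf ?_
      rw [← l.mem_FX, hA]
      exact hx
    have h5 := l.inf_eq K hD h hA hgL hg h4 h3
    exact ⟨x, ((add_eq_zero' K.two).1 h5).symm⟩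
  intro m
  obtain ⟨v, hv⟩ := l.add_F K hD h hA hpf m
  obtain ⟨w, hw⟩ := key _ hv
  refine ⟨w + v, ?_⟩
  rw [map_add, hw, add_assoc, K.two, add_zero]

end Lift

end Cfsg.Agent.Omega.NO1.Alpha
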