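import Cfsg.Agent.Omega.NO1.Alpha.Defs

/-!
# THEOREM ALPHA (text #18722, helper446): (0), minimal pairs of type I
-/

set_option autoImplicit false
set_option linter.unusedSectionVars false

namespace Cfsg.Agent.Omega.NO1.Alpha

open Subgroup Cfsg.Agent.ZN
open Cfsg.Agent.Omega.NO1.HE (dl mem_conj mem_smul_sylow)
open Cfsg.Agent.MinSimple.VModule (o2_isPGroup le_normalizer_o2 o2_le)
open scoped Pointwise

universe u

section frattini

variable {Z : Type u} [Group Z] [Finite Z]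

/-- The normal core of the unique maximal subgroup over a Sylow 2-subgroup: its 2-elements lie in `O₂`. -/
theorem le_pCore_of_core {T : Sylow 2 Z} {Mx : Subgroup Z} (Mne : Mx ≠ ⊤)
    (max : ∀ K : Subgroup Z, (T : Subgroup Z) ≤ K → K ≠ ⊤ → K ≤ Mx) {R : Subgroup Z} (hR : IsPGroup 2 R)
    (hRK : R ≤ Mx.normalCore) : R ≤ pCore 2 Z := by
  have : Fact (Nat.Prime 2) := ⟨Nat.prime_two⟩
  set K := Mx.normalCore with hK
  obtain ⟨Q, hQ⟩ := (hR.comap_of_injective _ K.subtype_injective : IsPGroup 2 (R.subgroupOf K)).exists_le_sylow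
  have hF := Sylow.normalizer_sup_eq_top Q
  set Q' := (Q : Subgroup K).map K.subtype with hQ'
  have hRQ : R ≤ Q' := fun r hr => ⟨⟨r, hRK hr⟩, hQ (Subgroup.mem_subgroupOf.2 hr), rfl⟩
  have hQp : IsPGroup 2 Q' := Q.isPGroup'.map _
  obtain ⟨T', hT'⟩ := hQp.exists_le_sylow
  obtain ⟨g, rfl⟩ := MulAction.exists_smul_eq Z T T'
  -- `Q' = T' ∩ K`
  have hTK : ((g • T : Sylow 2 Z) : Subgroup Z) ⊓ K ≤ Q' := by
    have h1 : IsPGroup 2 ((((g • T : Sylow 2 Z) : Subgroup Z) ⊓ K).subgroupOf K) :=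
      ((g • T).isPGroup'.to_le inf_le_left).comap_of_injective _ K.subtype_injective
    have h2 : (Q : Subgroup K) ≤ (((g • T : Sylow 2 Z) : Subgroup Z) ⊓ K).subgroupOf K := by
      intro x hx
      rw [Subgroup.mem_subgroupOf]
      exact ⟨hT' ⟨x, hx, rfl⟩, x.2⟩
    have h3 := Q.is_maximal' h1 h2
    rintro y ⟨hy1, hy2⟩
    refine ⟨⟨y, hy2⟩, ?_, rfl⟩
    rw [SetLike.mem_coe, ← h3, Subgroup.mem_subgroupOf]
    exact ⟨hy1, hy2⟩
  have hnorm : ((g • T : Sylow 2 Z) : Subgroup Z) ≤ normalizer (Q' : Set Z) := by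
    intro t ht
    have key' : ∀ s ∈ ((g • T : Sylow 2 Z) : Subgroup Z), ∀ y ∈ Q', s * y * s⁻¹ ∈ Q' := by
      intro s hs y hy
      refine hTK ⟨Subgroup.mul_mem _ (Subgroup.mul_mem _ hs (hT' hy)) (Subgroup.inv_mem _ hs), ?_⟩
      have hyK : y ∈ K := by
        obtain ⟨x, -, rfl⟩ := hy
        exact x.2
      exact (Subgroup.normalCore_normal Mx).conj_mem y hyK s
    rw [Subgroup.mem_normalizer_iff]
    intro y
    refine ⟨key' t ht y, fun h => ?_⟩
    have := key' t⁻¹ (inv_mem ht) _ h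
    rwa [show t⁻¹ * (t * y * t⁻¹) * t⁻¹⁻¹ = y by group] at this
  have hconj : ∀ H : Subgroup Z, ((g • T : Sylow 2 Z) : Subgroup Z) ≤ H → H ≠ ⊤ → H ≤ MulAut.conj g • Mx := by
    intro H hH hH1
    have h1 : (T : Subgroup Z) ≤ MulAut.conj g⁻¹ • H := by
      intro t ht
      rw [mem_conj, inv_inv]
      apply hH
      rw [Sylow.coe_subgroup_smul, mem_conj]
      rwa [show g⁻¹ * (g * t * g⁻¹) * g = t by group]
    have h2 : (MulAut.conj g⁻¹ • H : Subgroup Z) ≠ ⊤ := by
      intro h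
      apply hH1
      apply Subgroup.eq_top_of_card_eq
      rw [Nat.card_congr (Subgroup.equivSMul (MulAut.conj g⁻¹) H).toEquiv, h, Subgroup.card_top]
    have h3 := max _ h1 h2
    intro y hy
    rw [mem_conj]
    apply h3
    rw [mem_conj, inv_inv]
    rwa [show g * (g⁻¹ * y * g) * g⁻¹ = y by group]
  have hnn : normalizer (Q' : Set Z) = ⊤ := by
    by_contra hne
    have h1 := hconj _ hnorm hne
    have h2 : K ≤ MulAut.conj g • Mx := by
      intro y hy
      rw [mem_conj]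
      have h3 := (Subgroup.normalCore_normal Mx).conj_mem y hy g⁻¹
      rw [inv_inv] at h3
      exact Subgroup.normalCore_le Mx h3
    have h3 : (MulAut.conj g • Mx : Subgroup Z) = ⊤ := by
      rw [← top_le_iff, ← hF]
      exact sup_le h1 h2
    apply Mne
    apply Subgroup.eq_top_of_card_eq
    rw [Nat.card_congr (Subgroup.equivSMul (MulAut.conj g) Mx).toEquiv, h3, Subgroup.card_top]
  exact hRQ.trans (Lib.Cores.le_pCore (normalizer_eq_top_iff.1 hnn) hQp)

end frattini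

variable {Y : Type u} [Group Y] {V : Type u} [AddCommGroup V] [DistribMulAction Y V]

namespace Pair

variable {UU : Set (Subgroup Y)} {A C L : Subgroup Y} {q : ℕ}

theorem A_le (P : Pair UU A C L) : A ≤ L := P.gen ▸ le_sup_left

theorem C_le (P : Pair UU A C L) : C ≤ L := P.gen ▸ le_sup_right

theorem symm (P : Pair UU A C L) : Pair UU C A L :=
  ⟨P.C_mem, P.A_mem, P.ne.symm, by rw [sup_comm]; exact P.gen, P.min, fun h => P.one ⟨h.2, h.1⟩⟩

/-- (0) : two members of a proper subgroup are equal -/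
theorem eq_of_lt (P : Pair UU A C L) {D D' H : Subgroup Y} (hD : D ∈ UU) (hD' : D' ∈ UU) (hDH : D ≤ H)
    (hDH' : D' ≤ H) (hHL : H ≤ L) (hne : H ≠ L) : D = D' := by
  by_contra h1
  exact hne (le_antisymm hHL ((P.min D hD D' hD' h1 ((sup_le hDH hDH').trans hHL)).symm.le.trans
    (sup_le hDH hDH')))

theorem conj_le {D H : Subgroup Y} {h : Y} (hDH : D ≤ H) (hh : h ∈ H) : MulAut.conj h • D ≤ H := by
  intro y hy
  rw [mem_conj] at hy
  have e : y = h * (h⁻¹ * y * h) * h⁻¹ := by group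
  rw [e]
  exact mul_mem (mul_mem hh (hDH hy)) (inv_mem hh)

/-- (0) : `D ≤ H < L` implies `H ≤ N(D)` -/
theorem le_norm (P : Pair UU A C L) (K : Cls V q UU) {D H : Subgroup Y} (hD : D ∈ UU) (hDH : D ≤ H)
    (hHL : H ≤ L) (hne : H ≠ L) : H ≤ normalizer (D : Set Y) := fun h hh =>
  conj_eq_iff.1 (P.eq_of_lt (K.conj D hD h) hD (conj_le hDH hh) hDH hHL hne)

section fin

variable [Finite Y]

/-- (0) : `L` is not a 2-group -/
theorem not_two (P : Pair UU A C L) (K : Cls V q UU) : ¬ IsPGroup 2 L := by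
  intro h2
  have : Fact (Nat.Prime 2) := ⟨Nat.prime_two⟩
  have key : ∀ D ∈ UU, D ≤ L → L ≤ normalizer (D : Set Y) := by
    intro D hD hDL
    by_contra hne
    set N : Subgroup Y := L ⊓ normalizer (D : Set Y) with hN
    have hNL : N ≠ L := fun h => hne (h ▸ inf_le_right)
    have hDN : D ≤ N := le_inf hDL Subgroup.le_normalizer
    have : Group.IsNilpotent L := h2.isNilpotent
    have h3 : N.subgroupOf L < normalizer (N.subgroupOf L : Set L) :=
      Group.normalizerCondition_of_isNilpotent _ (lt_top_iff_ne_top.2 fun h => hNL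
        (le_antisymm inf_le_left (subgroupOf_eq_top.1 h)))
    obtain ⟨x, hx, hxN⟩ := SetLike.exists_of_lt h3
    apply hxN
    rw [mem_subgroupOf]
    refine ⟨x.2, ?_⟩
    have h4 : MulAut.conj (x : Y) • D ≤ N := by
      intro y hy
      rw [mem_conj] at hy
      have hyN := hDN hy
      have h5 := (mem_normalizer_iff.1 hx ⟨(x : Y)⁻¹ * y * x, (mem_inf.1 hyN).1⟩).1 (mem_subgroupOf.2 hyN)
      rw [mem_subgroupOf] at h5
      have e : ((x : Y) * ((x : Y)⁻¹ * y * x) * (x : Y)⁻¹) = y := by group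
      change ((x : Y) * ((x : Y)⁻¹ * y * x) * (x : Y)⁻¹) ∈ N at h5
      rwa [e] at h5
    exact conj_eq_iff.1 (P.eq_of_lt (K.conj D hD x) hD h4 hDN inf_le_left hNL)
  exact P.one ⟨P.A_le.trans (key C P.C_mem P.C_le), P.C_le.trans (key A P.A_mem P.A_le)⟩

theorem not_norm (P : Pair UU A C L) (K : Cls V q UU) : ¬ L ≤ normalizer (A : Set Y) := by
  intro h
  apply P.not_two K
  rw [← P.gen]
  exact (K.mem A P.A_mem).two_pow.to_sup_of_normal_left' (K.mem C P.C_mem).two_pow (P.C_le.trans h)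

/-- (0) : `L = ⟨A, A^x⟩` -/
theorem sup_conj (P : Pair UU A C L) (K : Cls V q UU) {x : Y} (hx : x ∈ L)
    (hn : x ∉ normalizer (A : Set Y)) : A ⊔ MulAut.conj x • A = L := by
  refine P.min A P.A_mem _ (K.conj A P.A_mem x) (fun h => hn (conj_eq_iff.1 h.symm)) ?_
  exact sup_le P.A_le (conj_le P.A_le hx)

theorem exists_sylow (P : Pair UU A C L) (K : Cls V q UU) : ∃ T : Sylow 2 L, A.subgroupOf L ≤ T :=
  ((K.mem A P.A_mem).two_pow.comap_of_injective _ L.subtype_injective).exists_le_sylow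

theorem sylow_ne (P : Pair UU A C L) (K : Cls V q UU) (T : Sylow 2 L) : (T : Subgroup L) ≠ ⊤ := by
  intro h
  apply P.not_two K
  have h1 := T.isPGroup'
  rw [h] at h1
  exact h1.of_equiv topEquiv

/-- the maximal subgroup -/
abbrev Mx (A L : Subgroup Y) : Subgroup L := (normalizer (A : Set Y)).subgroupOf L

theorem Mx_ne (P : Pair UU A C L) (K : Cls V q UU) : Mx A L ≠ ⊤ := fun h =>
  P.not_norm K (subgroupOf_eq_top.1 h)

theorem le_Mx (P : Pair UU A C L) (K : Cls V q UU) {H : Subgroup L} (hA : A.subgroupOf L ≤ H) (hne : H ≠ ⊤) :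
    H ≤ Mx A L := by
  have h1 : H.map L.subtype ≤ normalizer (A : Set Y) := by
    refine P.le_norm K P.A_mem ?_ (map_subtype_le _) fun h => hne ?_
    · have h2 := map_mono (f := L.subtype) hA
      rwa [subgroupOf_map_subtype, inf_eq_left.2 P.A_le] at h2
    · rw [eq_top_iff]
      intro x _
      have h3 : (x : Y) ∈ H.map L.subtype := h.symm.le x.2
      obtain ⟨y, hy, hyx⟩ := h3
      have : y = x := Subtype.ext hyx
      exact this ▸ hy
  intro x hx
  rw [mem_subgroupOf]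
  exact h1 ⟨x, hx, rfl⟩

/-- (0) : `C` is an `L`-conjugate of `A` -/
theorem exists_conj (P : Pair UU A C L) (K : Cls V q UU) : ∃ x ∈ L, MulAut.conj x • A = C := by
  have : Fact (Nat.Prime 2) := ⟨Nat.prime_two⟩
  obtain ⟨T, hT⟩ := P.exists_sylow K
  obtain ⟨T', hT'⟩ := P.symm.exists_sylow K
  obtain ⟨x, rfl⟩ := MulAction.exists_smul_eq L T T'
  refine ⟨x, x.2, ?_⟩
  refine P.eq_of_lt (K.conj A P.A_mem x) P.C_mem (H := ((x • T : Sylow 2 L) : Subgroup L).map L.subtype)
    ?_ ?_ (map_subtype_le _) fun h => P.sylow_ne K (x • T) ?_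
  · intro y hy
    rw [mem_conj] at hy
    have hyL : y ∈ L := conj_le P.A_le x.2 (mem_conj.2 hy)
    refine ⟨⟨y, hyL⟩, ?_, rfl⟩
    change (⟨y, hyL⟩ : L) ∈ x • T
    rw [mem_smul_sylow]
    exact hT (mem_subgroupOf.2 hy)
  · intro y hy
    exact ⟨⟨y, P.C_le hy⟩, hT' (mem_subgroupOf.2 hy), rfl⟩
  · rw [eq_top_iff]
    intro y _
    have h3 : (y : Y) ∈ ((x • T : Sylow 2 L) : Subgroup L).map L.subtype := h.symm.le y.2
    obtain ⟨z, hz, hzy⟩ := h3
    have : z = y := Subtype.ext hzy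
    exact this ▸ hz

/-- (0) : the 2-elements of the core of `N_L(A)` lie in `O₂(L)` -/
theorem le_o2 (P : Pair UU A C L) (K : Cls V q UU) {R : Subgroup Y} (hRL : R ≤ L) (hR : IsPGroup 2 R)
    (h : ∀ r ∈ R, ∀ l ∈ L, l * r * l⁻¹ ∈ normalizer (A : Set Y)) : R ≤ o2 L := by
  obtain ⟨T, hT⟩ := P.exists_sylow K
  have h1 : R.subgroupOf L ≤ pCore 2 L := by
    refine le_pCore_of_core (T := T) (Mx := Mx A L) (P.Mx_ne K) (fun H hH hne => P.le_Mx K (hT.trans hH) hne)
      (hR.comap_of_injective _ L.subtype_injective) ?_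
    intro r hr l
    rw [mem_subgroupOf]
    exact h r (mem_subgroupOf.1 hr) l l.2
  have h2 := map_mono (f := L.subtype) h1
  rw [subgroupOf_map_subtype, inf_eq_left.2 hRL] at h2
  exact h2

theorem not_norm_C (P : Pair UU A C L) (K : Cls V q UU) : ¬ C ≤ normalizer (A : Set Y) := fun h =>
  P.not_norm K (by rw [← P.gen]; exact sup_le Subgroup.le_normalizer h)

end fin

end Pair

end Cfsg.Agent.Omega.NO1.Alpha
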