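import Cfsg.Agent.Omega.NO1.Alpha.Min

/-!
# LEMMA (TR) (text #19134, helper558)
-/

set_option autoImplicit false
set_option linter.unusedSectionVars false

namespace Cfsg.Agent.Omega.NO1.Alpha

open Subgroup Cfsg.Agent.ZN
open Cfsg.Agent.Omega.NO1.HE (dl dl_apply dl_one dl_eq_zero dl_comm dl_mul dl_self smul_eq add_eq_zero' mem_conj
  exists_fn zmod2)
open scoped Pointwise

universe u

variable {Y : Type u} [Group Y] {V : Type u} [AddCommGroup V] [DistribMulAction Y V]

theorem card_dual' {Q : Type u} [AddCommGroup Q] [Finite Q] (hQ : ∀ q : Q, q + q = 0) :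
    Nat.card (Q →+ ZMod 2) = Nat.card Q := by
  classical
  have := Fintype.ofFinite Q
  have : Finite (Q →+ ZMod 2) := Finite.of_injective _ DFunLike.coe_injective
  have := Fintype.ofFinite (Q →+ ZMod 2)
  rw [Nat.card_eq_fintype_card, Nat.card_eq_fintype_card]
  exact HE.card_dual hQ

/-- **LEMMA (TR).** -/
theorem tr [Finite Y] [Finite V] (h2 : ∀ v : V, v + v = 0) {q : ℕ} {A : Subgroup Y} (hA : Mem V q A) {x : V}
    (hx : x ∈ EX V A) {A₁ : Subgroup Y} (hA₁ : A₁ ≤ A) (hc : q ≤ Nat.card A₁)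
    (h1 : ∀ s ∈ A₁, s ≠ 1 → ∃ w, w ∉ EX V A ∧ dl s w + x ∈ FX V A)
    (hq : ∀ s ∈ A₁, ∀ t ∈ A₁, ∀ v : V, dl s (dl t v) = 0) {E' : AddSubgroup V}
    (hE : ∀ s ∈ A₁, ∀ v ∈ E', s • v ∈ E') (hi : E'.index < 2 * q) {b : Y} (hb : b ∈ A) : dl b x ∈ E' := by
  classical
  by_contra hf
  obtain ⟨ψ, hψ, hψf⟩ := exists_fn h2 E' hf
  have hfF : dl b x ∈ FX V A := hA.dlF hb hx
  have hQ : ∀ z : V ⧸ E', z + z = 0 := by
    intro z
    induction z using QuotientAddGroup.induction_on with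
    | _ v => rw [← QuotientAddGroup.mk_add, h2, QuotientAddGroup.mk_zero]
  let D := (V ⧸ E') →+ ZMod 2
  have iD : Finite D := Finite.of_injective _ DFunLike.coe_injective
  -- evaluation at `f`
  let ev : D →+ ZMod 2 := AddMonoidHom.mk' (fun g => g ((dl b x : V) : V ⧸ E')) (fun g g' => rfl)
  let K : AddSubgroup D := ev.ker
  have hK : K ≠ ⊤ := by
    intro h
    let ψ' : D := QuotientAddGroup.lift E' ψ hψ
    have h3 : ψ' ∈ K := h ▸ AddSubgroup.mem_top _
    exact hψf h3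
  -- the map
  have hlift : ∀ s : A₁, ∀ e ∈ E', (ψ.comp (dl (s : Y))) e = 0 := by
    intro s e he
    change ψ (dl (s : Y) e) = 0
    exact hψ _ (E'.add_mem (hE s s.2 e he) he)
  let η : A₁ → D := fun s => QuotientAddGroup.lift E' (ψ.comp (dl (s : Y))) (hlift s)
  have hη : ∀ (s : A₁) (v : V), η s (v : V ⧸ E') = ψ (dl (s : Y) v) := fun _ _ => rfl
  have hηK : ∀ s : A₁, η s ∈ K := by
    intro s
    change η s ((dl b x : V) : V ⧸ E') = 0
    rw [hη, hA.dl0 h2 (hA₁ s.2) hfF, map_zero]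
  have hinj : Function.Injective (fun s : A₁ => (⟨η s, hηK s⟩ : K)) := by
    intro s t hst
    have h3 : η s = η t := congrArg Subtype.val hst
    by_contra hne
    have h4 : (t : Y) * s ≠ 1 := by
      intro h5
      apply hne
      apply Subtype.ext
      have h6 := hA.sq t (hA₁ t.2)
      exact mul_left_cancel (h5.trans h6.symm)
    obtain ⟨w, hw, hwx⟩ := h1 _ (A₁.mul_mem t.2 s.2) h4
    -- `f = [w, ts, b] = [w, b, ts]`
    have h5 : dl b x = dl ((t : Y) * s) (dl b w) := by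
      rw [dl_comm (hA.comm _ (A.mul_mem (hA₁ t.2) (hA₁ s.2)) _ hb), ← add_eq_zero' h2, ← map_add, add_comm]
      exact hA.dl0 h2 hb hwx
    have h6 : ψ (dl b x) = 0 := by
      rw [h5, dl_mul h2, hq t t.2 s s.2, add_zero, map_add, ← hη, ← hη, h3]
      exact CharTwo.add_self_eq_zero _
    exact hψf h6
  have c1 := Nat.card_le_card_of_injective _ hinj
  have c2 : K.index * Nat.card K = Nat.card D := AddSubgroup.index_mul_card K
  have c3 : Nat.card D = E'.index := card_dual' hQ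
  have c4 : 2 ≤ K.index := by
    have h5 : K.index ≠ 0 := AddSubgroup.index_ne_zero_of_finite
    have h6 : K.index ≠ 1 := fun h => hK (AddSubgroup.index_eq_one.1 h)
    omega
  have c5 : 2 * Nat.card K ≤ K.index * Nat.card K := Nat.mul_le_mul_right _ c4
  omega

end Cfsg.Agent.Omega.NO1.Alpha
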