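import Cfsg.Agent.Omega.NO1.Alpha.Five

/-!
# THEOREM ALPHA (text #18722, helper446), (6): `B ∩ M' = 1` for `M' ≠ M_B`, and (7): (+)
-/

set_option autoImplicit false
set_option linter.unusedSectionVars false

namespace Cfsg.Agent.Omega.NO1.Alpha

open Subgroup Cfsg.Agent.ZN
open Cfsg.Agent.Omega.NO1.HE (dl dl_apply dl_one dl_eq_zero dl_comm dl_mul dl_self smul_eq add_eq_zero' mem_conj
  Pts At mem_smul_sylow exists_fixed)
open scoped Pointwise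

universe u

variable {Y : Type u} [Group Y] {V : Type u} [AddCommGroup V] [DistribMulAction Y V] {Ω : Type u} [MulAction Y Ω]

/-- A bad pair of Sylow groups. -/
structure BadP (UU : Set (Subgroup Y)) (T T' : Sylow 2 Y) (B C : Subgroup Y) (p p' : Ω) : Prop where
  m : B ∈ UU
  m' : C ∈ UU
  l : B ≤ T
  l' : C ≤ T'
  a : At T p
  a' : At T' p'
  ne : p ≠ p'
  tr : (∃ b ∈ B, b ≠ 1 ∧ b ∈ T') ∨ ∃ c ∈ C, c ≠ 1 ∧ c ∈ T

theorem BadP.symm {UU : Set (Subgroup Y)} {T T' : Sylow 2 Y} {B C : Subgroup Y} {p p' : Ω}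
    (h : BadP UU T T' B C p p') : BadP UU T' T C B p' p :=
  ⟨h.m', h.m, h.l', h.l, h.a', h.a, h.ne.symm, h.tr.symm⟩

/-- `|T ∩ T'|` maximal. -/
structure Cf (UU : Set (Subgroup Y)) (T T' : Sylow 2 Y) (B C : Subgroup Y) (p p' : Ω) : Prop where
  bad : BadP UU T T' B C p p'
  max : ∀ (S S' : Sylow 2 Y) (D D' : Subgroup Y) (r r' : Ω), BadP UU S S' D D' r r' →
    Nat.card ((S : Subgroup Y) ⊓ S' : Subgroup Y) ≤ Nat.card ((T : Subgroup Y) ⊓ T' : Subgroup Y)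

theorem Cf.symm {UU : Set (Subgroup Y)} {T T' : Sylow 2 Y} {B C : Subgroup Y} {p p' : Ω}
    (h : Cf UU T T' B C p p') : Cf UU T' T C B p' p :=
  ⟨h.bad.symm, fun S S' D D' r r' hb => by
    rw [inf_comm (T' : Subgroup Y)]
    exact h.max S S' D D' r r' hb⟩

theorem exists_cf [Finite Y] {UU : Set (Subgroup Y)} {T T' : Sylow 2 Y} {B C : Subgroup Y} {p p' : Ω}
    (h : BadP UU T T' B C p p') : ∃ (S S' : Sylow 2 Y) (D D' : Subgroup Y) (r r' : Ω), Cf UU S S' D D' r r' := by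
  classical
  let α := {x : Sylow 2 Y × Sylow 2 Y // ∃ (D D' : Subgroup Y) (r r' : Ω), BadP UU x.1 x.2 D D' r r'}
  have : Nonempty α := ⟨⟨(T, T'), B, C, p, p', h⟩⟩
  obtain ⟨⟨⟨S, S'⟩, D, D', r, r', h1⟩, h2⟩ :=
    Finite.exists_max (fun x : α => Nat.card ((x.1.1 : Subgroup Y) ⊓ x.1.2 : Subgroup Y))
  exact ⟨S, S', D, D', r, r', h1, fun X X' A A' s s' hb => h2 ⟨(X, X'), A, A', s, s', hb⟩⟩

theorem sup_le_of_max [Finite Y] {R C : Subgroup Y} {N : Subgroup Y} (h1 : R ⊔ C ≤ N)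
    (h2 : Nat.card N ≤ Nat.card R) : C ≤ R := by
  have h3 : R = N := Subgroup.eq_of_le_of_card_ge (le_sup_left.trans h1) h2
  rw [h3]
  exact le_sup_right.trans h1

namespace Inp

variable {q : ℕ} {UU : Set (Subgroup Y)} [Finite Y] [Finite V] (I : Inp V q UU) (P : Pts Y Ω)
  (mx : ∀ (T : Sylow 2 Y) (p : Ω), At T p → ∀ K : Subgroup Y, (T : Subgroup Y) ≤ K → K ≠ ⊤ → ∀ k ∈ K, k • p = p)
include I P mx

section cf

variable {T T' : Sylow 2 Y} {B C : Subgroup Y} {p p' : Ω} (h : Cf UU T T' B C p p')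
include h

/-- the first half -/
theorem half (ht : ∃ b ∈ B, b ≠ 1 ∧ b ∈ T') : (∃ z ∈ B, z ≠ 1 ∧ z ∈ T' ∧
      (∀ r ∈ T, r ∈ T' → r * z = z * r) ∧ ∀ c ∈ C, c * z = z * c → c ∈ T) ∧ ∃ c ∈ C, c ≠ 1 ∧ c ∈ T := by
  have hb := h.bad
  set R : Subgroup Y := (T : Subgroup Y) ⊓ T' with hR
  have hRp : IsPGroup 2 R := T.isPGroup'.to_le inf_le_left
  have hBT := I.norm_of_le hb.m hb.l
  have hCT := I.norm_of_le hb.m' hb.l'
  obtain ⟨z, hz, hz1, hzR⟩ := exists_central (N := B ⊓ T') hRp (inf_le_inf_right _ hb.l) (by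
    intro r hr
    have hr' := Subgroup.mem_inf.1 hr
    rw [mem_normalizer_iff]
    intro y
    have h1 := mem_normalizer_iff.1 (hBT hr'.1) y
    have h2 : y ∈ (T' : Subgroup Y) ↔ r * y * r⁻¹ ∈ (T' : Subgroup Y) :=
      mem_normalizer_iff.1 (Subgroup.le_normalizer (H := (T' : Subgroup Y)) hr'.2) y
    exact and_congr h1 h2) (by
    intro h0
    obtain ⟨b, hb, hb1, hbT⟩ := ht
    apply hb1
    have : b ∈ B ⊓ (T' : Subgroup Y) := Subgroup.mem_inf.2 ⟨hb, hbT⟩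
    rwa [h0, mem_bot] at this)
  obtain ⟨hzB, hzT'⟩ := Subgroup.mem_inf.1 hz
  obtain ⟨w, hw, hw1, hwT⟩ := exists_central T'.isPGroup' hb.l' hCT (by
    intro h0
    obtain ⟨c, hc, hc1⟩ := (I.mem C hb.m').exists_ne_one
    rw [h0, mem_bot] at hc
    exact hc1 hc)
  -- `K = C_C(z)`
  set K : Subgroup Y := C ⊓ centralizer {z} with hK
  have hKmem : ∀ c, c ∈ K ↔ c ∈ C ∧ c * z = z * c := by
    intro c
    rw [hK, Subgroup.mem_inf, mem_centralizer_iff]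
    simp only [Set.mem_singleton_iff, forall_eq]
    exact and_congr_right fun _ => eq_comm
  have hKp : IsPGroup 2 K := (I.mem C hb.m').two_pow.to_le inf_le_left
  have hRK : R ≤ normalizer (K : Set Y) := by
    intro r hr
    have hr' := Subgroup.mem_inf.1 hr
    have hrz := hzR r hr
    rw [mem_normalizer_iff]
    intro y
    rw [hKmem, hKmem]
    refine and_congr (mem_normalizer_iff.1 (hCT hr'.2) y) ?_
    have e : z = r * z * r⁻¹ := by rw [hrz, mul_inv_cancel_right]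
    constructor
    · intro hy
      calc r * y * r⁻¹ * z = r * y * r⁻¹ * (r * z * r⁻¹) := by rw [← e]
        _ = r * (y * z) * r⁻¹ := by group
        _ = r * (z * y) * r⁻¹ := by rw [hy]
        _ = (r * z * r⁻¹) * (r * y * r⁻¹) := by group
        _ = z * (r * y * r⁻¹) := by rw [← e]
    · intro hy
      have e' : z = r⁻¹ * z * r := by rw [mul_assoc, ← hrz, inv_mul_cancel_left]
      calc y * z = r⁻¹ * (r * y * r⁻¹) * r * z := by group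
        _ = r⁻¹ * (r * y * r⁻¹) * (r * z) := by group
        _ = r⁻¹ * (r * y * r⁻¹) * (z * r) := by rw [hrz]
        _ = r⁻¹ * ((r * y * r⁻¹) * z) * r := by group
        _ = r⁻¹ * (z * (r * y * r⁻¹)) * r := by rw [hy]
        _ = (r⁻¹ * z * r) * y := by group
        _ = z * y := by rw [← e']
  have hRKp : IsPGroup 2 (R ⊔ K : Subgroup Y) := hRp.to_sup_of_normal_right' hKp hRK
  obtain ⟨S, hS, hSp⟩ := P.exists_sylow hRKp (p := p) (fun r hr => by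
    have h1 : R ⊔ K ≤ MulAction.stabilizer Y p := by
      refine sup_le (fun r hr => hb.a r (Subgroup.mem_inf.1 hr).1) fun c hc => ?_
      exact I.cent_fix P mx hb.m hb.l hb.a hzB hz1 ((hKmem c).1 hc).2
    exact h1 hr)
  obtain ⟨D, hD, hDS⟩ := I.exists_mem_sylow hb.m S
  have hwK : w ∈ K := (hKmem w).2 ⟨hw, (hwT z hzT').symm⟩
  have h3 := h.max S T' D C p p' ⟨hD, hb.m', hDS, hb.l', hSp, hb.a', hb.ne,
    Or.inr ⟨w, hw, hw1, hS (le_sup_right (a := R) hwK)⟩⟩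
  have h4 : K ≤ R := sup_le_of_max (le_inf hS (sup_le inf_le_right (inf_le_left.trans hb.l'))) h3
  exact ⟨⟨z, hzB, hz1, hzT', fun r hr hr' => hzR r (Subgroup.mem_inf.2 ⟨hr, hr'⟩), fun c hc hcz =>
    (Subgroup.mem_inf.1 (h4 ((hKmem c).2 ⟨hc, hcz⟩))).1⟩, w, hw, hw1, (Subgroup.mem_inf.1 (h4 hwK)).1⟩

theorem t1 : ∃ b ∈ B, b ≠ 1 ∧ b ∈ T' := by
  rcases h.bad.tr with ht | ht
  · exact ht
  · exact (I.half P mx h.symm ht).2

theorem zz : ∃ z ∈ B, z ≠ 1 ∧ z ∈ T' ∧ (∀ r ∈ T, r ∈ T' → r * z = z * r) ∧ ∀ c ∈ C, c * z = z * c → c ∈ T :=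
  (I.half P mx h (I.t1 P mx h)).1

theorem norm {f : Y} (hf : f ∈ B) (hn : f ∈ normalizer (C : Set Y)) : f ∈ T' := by
  have hb := h.bad
  obtain ⟨b, hbB, hb1, hbT⟩ := I.t1 P mx h
  set R : Subgroup Y := (T : Subgroup Y) ⊓ T' with hR
  have hRp : IsPGroup 2 R := T.isPGroup'.to_le inf_le_left
  have hBT := I.norm_of_le hb.m hb.l
  have hCT := I.norm_of_le hb.m' hb.l'
  set K : Subgroup Y := B ⊓ normalizer (C : Set Y) with hK
  have hKp : IsPGroup 2 K := (I.mem B hb.m).two_pow.to_le inf_le_left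
  have hRK : R ≤ normalizer (K : Set Y) := by
    intro r hr
    have hr' := Subgroup.mem_inf.1 hr
    rw [mem_normalizer_iff]
    intro y
    have h1 := mem_normalizer_iff.1 (hBT hr'.1) y
    have h2 : y ∈ normalizer (C : Set Y) ↔ r * y * r⁻¹ ∈ normalizer (C : Set Y) :=
      mem_normalizer_iff.1 (Subgroup.le_normalizer (H := normalizer (C : Set Y)) (hCT hr'.2)) y
    exact and_congr h1 h2
  have hRKp : IsPGroup 2 (R ⊔ K : Subgroup Y) := hRp.to_sup_of_normal_right' hKp hRK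
  obtain ⟨S, hS, hSp⟩ := P.exists_sylow hRKp (p := p') (fun r hr => by
    have h1 : R ⊔ K ≤ MulAction.stabilizer Y p' := by
      refine sup_le (fun r hr => hb.a' r (Subgroup.mem_inf.1 hr).2) fun c hc => ?_
      exact I.norm_fix mx hb.m' hb.l' hb.a' (Subgroup.mem_inf.1 hc).2
    exact h1 hr)
  obtain ⟨D, hD, hDS⟩ := I.exists_mem_sylow hb.m S
  have hbR : b ∈ R := Subgroup.mem_inf.2 ⟨hb.l hbB, hbT⟩
  have h3 := h.max T S B D p p' ⟨hb.m, hD, hb.l, hDS, hb.a, hSp, hb.ne,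
    Or.inl ⟨b, hbB, hb1, hS (le_sup_left (b := K) hbR)⟩⟩
  have h4 : K ≤ R := sup_le_of_max (le_inf (sup_le inf_le_left (inf_le_left.trans hb.l)) hS) h3
  exact (Subgroup.mem_inf.1 (h4 (Subgroup.mem_inf.2 ⟨hf, hn⟩))).2

theorem disj : B ⊓ C = ⊥ := by
  have hb := h.bad
  rw [eq_bot_iff]
  intro y hy
  obtain ⟨h1, h2⟩ := Subgroup.mem_inf.1 hy
  rw [mem_bot]
  by_contra hy1
  exact hb.ne (I.eq_pt P mx hb.m hb.l hb.a h1 hy1 hb.m' hb.l' hb.a' h2 hy1 fun _ hv => hv)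

theorem comm {b c : Y} (hbB : b ∈ B) (hbT : b ∈ T') (hcC : c ∈ C) (hcT : c ∈ T) : b * c = c * b := by
  have hb := h.bad
  have hBT := I.norm_of_le hb.m hb.l
  have hCT := I.norm_of_le hb.m' hb.l'
  have h3 : b * c * b⁻¹ * c⁻¹ ∈ B ⊓ C := by
    refine Subgroup.mem_inf.2 ⟨?_, ?_⟩
    · have h4 := (mem_normalizer_iff.1 (hBT hcT) b⁻¹).1 (inv_mem hbB)
      have e : b * c * b⁻¹ * c⁻¹ = b * (c * b⁻¹ * c⁻¹) := by group
      rw [e]
      exact Subgroup.mul_mem _ hbB h4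
    · exact Subgroup.mul_mem _ ((mem_normalizer_iff.1 (hCT hbT) c).1 hcC) (Subgroup.inv_mem _ hcC)
  rw [I.disj P mx h, mem_bot, mul_inv_eq_one, mul_inv_eq_iff_eq_mul] at h3
  exact h3

/-- `[B, C ∩ T] ≤ T'` -/
theorem comm_mem {f r : Y} (hf : f ∈ B) (hr : r ∈ C) (hrT : r ∈ T) : f * r * f⁻¹ * r⁻¹ ∈ T' := by
  have hb := h.bad
  have MB := I.mem B hb.m
  have MC := I.mem C hb.m'
  have hBT := I.norm_of_le hb.m hb.l
  obtain ⟨z, hzC, -, hzT, -, hz⟩ := I.zz P mx h.symm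
  have hnz : ∀ y ∈ B, z * y * z⁻¹ ∈ B := fun y hy => (mem_normalizer_iff.1 (hBT hzT) y).1 hy
  have hz2 : z⁻¹ = z := MC.inv_eq hzC
  have hg : f * r * f⁻¹ * r⁻¹ ∈ B := by
    have h4 := (mem_normalizer_iff.1 (hBT hrT) f⁻¹).1 (inv_mem hf)
    have e : f * r * f⁻¹ * r⁻¹ = f * (r * f⁻¹ * r⁻¹) := by group
    rw [e]
    exact Subgroup.mul_mem _ hf h4
  apply hz _ hg
  -- `k = f⁻¹ f^z`
  set k : Y := f⁻¹ * (z * f * z⁻¹) with hk
  have hkB : k ∈ B := Subgroup.mul_mem _ (inv_mem hf) (hnz f hf)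
  have hkz : k * z = z * k := by
    have h5 : z * k * z⁻¹ = k⁻¹ := by
      rw [hk]
      calc z * (f⁻¹ * (z * f * z⁻¹)) * z⁻¹ = (z * f⁻¹ * z) * f * (z⁻¹ * z⁻¹) := by group
        _ = (z * f⁻¹ * z⁻¹) * f * (z⁻¹ * z) := by rw [hz2]
        _ = (f⁻¹ * (z * f * z⁻¹))⁻¹ := by group
    rw [MB.inv_eq hkB] at h5
    calc k * z = (z * k * z⁻¹) * z := by rw [h5]
      _ = z * k := by group
  have hkT : k ∈ T' := hz k hkB hkz
  have hkr : k * r = r * k := I.comm P mx h hkB hkT hr hrT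
  have hzr : z * r * z⁻¹ = r := by rw [MC.comm z hzC r hr, mul_inv_cancel_right]
  have hzf : z * f * z⁻¹ = f * k := by rw [hk]; group
  have h6 : z * (f * r * f⁻¹ * r⁻¹) * z⁻¹ = f * r * f⁻¹ * r⁻¹ := by
    calc z * (f * r * f⁻¹ * r⁻¹) * z⁻¹ = (z * f * z⁻¹) * (z * r * z⁻¹) * (z * f * z⁻¹)⁻¹ * (z * r * z⁻¹)⁻¹ := by
          group
      _ = f * k * r * (f * k)⁻¹ * r⁻¹ := by rw [hzr, hzf]
      _ = f * (k * r) * k⁻¹ * f⁻¹ * r⁻¹ := by group
      _ = f * (r * k) * k⁻¹ * f⁻¹ * r⁻¹ := by rw [hkr]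
      _ = f * r * f⁻¹ * r⁻¹ := by group
  calc f * r * f⁻¹ * r⁻¹ * z = z * (f * r * f⁻¹ * r⁻¹) * z⁻¹ * z := by rw [h6]
    _ = z * (f * r * f⁻¹ * r⁻¹) := by group

theorem card_le : q ≤ Nat.card (B ⊓ T' : Subgroup Y) := by
  have hb := h.bad
  have MB := I.mem B hb.m
  have MC := I.mem C hb.m'
  have hBT := I.norm_of_le hb.m hb.l
  obtain ⟨z, hzC, -, hzT, -, hz⟩ := I.zz P mx h.symm
  have hnz : ∀ y ∈ B, z * y * z⁻¹ ∈ B := fun y hy => (mem_normalizer_iff.1 (hBT hzT) y).1 hy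
  let φ : B →* Y := MonoidHom.mk' (fun f => (f : Y) * z * (f : Y)⁻¹ * z⁻¹) (by
    intro f g
    have hg : (g : Y) * z * (g : Y)⁻¹ * z⁻¹ ∈ B := by
      have e : (g : Y) * z * (g : Y)⁻¹ * z⁻¹ = g * (z * (g : Y)⁻¹ * z⁻¹) := by group
      rw [e]
      exact Subgroup.mul_mem _ g.2 (hnz _ (inv_mem g.2))
    have h1 := MB.comm f f.2 _ hg
    change ((f * g : B) : Y) * z * ((f * g : B) : Y)⁻¹ * z⁻¹ = _
    rw [Subgroup.coe_mul]
    calc (f : Y) * g * z * ((f : Y) * g)⁻¹ * z⁻¹ =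
        (f : Y) * ((g : Y) * z * (g : Y)⁻¹ * z⁻¹) * (z * (f : Y)⁻¹ * z⁻¹) := by group
      _ = (g : Y) * z * (g : Y)⁻¹ * z⁻¹ * f * (z * (f : Y)⁻¹ * z⁻¹) := by rw [h1]
      _ = (g : Y) * z * (g : Y)⁻¹ * z⁻¹ * ((f : Y) * z * (f : Y)⁻¹ * z⁻¹) := by group
      _ = (f : Y) * z * (f : Y)⁻¹ * z⁻¹ * ((g : Y) * z * (g : Y)⁻¹ * z⁻¹) := by
        apply MB.comm _ hg
        have e : (f : Y) * z * (f : Y)⁻¹ * z⁻¹ = f * (z * (f : Y)⁻¹ * z⁻¹) := by group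
        rw [e]
        exact Subgroup.mul_mem _ f.2 (hnz _ (inv_mem f.2)))
  have hφ : ∀ f : B, φ f = (f : Y) * z * (f : Y)⁻¹ * z⁻¹ := fun _ => rfl
  have hr : φ.range ≤ B ⊓ (T' : Subgroup Y) := by
    rintro _ ⟨f, rfl⟩
    rw [hφ]
    refine Subgroup.mem_inf.2 ⟨?_, I.comm_mem P mx h f.2 hzC hzT⟩
    have e : (f : Y) * z * (f : Y)⁻¹ * z⁻¹ = f * (z * (f : Y)⁻¹ * z⁻¹) := by group
    rw [e]
    exact Subgroup.mul_mem _ f.2 (hnz _ (inv_mem f.2))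
  have hk : Nat.card φ.ker ≤ Nat.card (B ⊓ T' : Subgroup Y) := by
    let g : φ.ker → (B ⊓ T' : Subgroup Y) := fun x => ⟨(x : B), by
      refine Subgroup.mem_inf.2 ⟨(x : B).2, hz _ (x : B).2 ?_⟩
      have h1 : φ (x : B) = 1 := x.2
      rw [hφ, mul_inv_eq_one, mul_inv_eq_iff_eq_mul] at h1
      exact h1⟩
    refine Nat.card_le_card_of_injective g fun a b hab => ?_
    have h9 : ((g a : (B ⊓ T' : Subgroup Y)) : Y) = g b := congrArg Subtype.val hab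
    exact Subtype.ext (Subtype.ext h9)
  have hr' : Nat.card φ.range ≤ Nat.card (B ⊓ T' : Subgroup Y) :=
    Nat.card_le_card_of_injective (Subgroup.inclusion hr) (Subgroup.inclusion_injective hr)
  have h1 := Subgroup.card_mul_index φ.ker
  rw [Subgroup.index_ker, I.cardB B hb.m] at h1
  by_contra hlt
  push Not at hlt
  have h2 : Nat.card φ.ker * Nat.card φ.range ≤
      Nat.card (B ⊓ T' : Subgroup Y) * Nat.card (B ⊓ T' : Subgroup Y) := Nat.mul_le_mul hk hr'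
  rw [h1] at h2
  nlinarith

end cf

end Inp

end Cfsg.Agent.Omega.NO1.Alpha
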